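import Mathlib
import Groth.Prelude.Def_FDesc

/-!
# Descent of geometric reducedness at a point along field extensions
-/

set_option autoImplicit false
universe u

open CategoryTheory CategoryTheory.Limits AlgebraicGeometry IsLocalRing

namespace SecNhdLib

theorem isReduced_of_flat_point {A B : Scheme.{u}} (m : A ⟶ B) [Flat m] (v : A)
    (h : _root_.IsReduced (A.presheaf.stalk v)) : _root_.IsReduced (B.presheaf.stalk (m v)) := by
  have hfl := Flat.stalkMap m v
  algebraize [(m.stalkMap v).hom]
  have : Module.FaithfullyFlat (B.presheaf.stalk (m v)) (A.presheaf.stalk v) :=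
    @Module.FaithfullyFlat.of_flat_of_isLocalHom _ _ _ _ _ _ _ hfl (m.toLRSHom.prop v)
  haveI := h
  exact isReduced_of_injective (m.stalkMap v).hom
    (RingHom.FaithfullyFlat.injective (f := (m.stalkMap v).hom) ‹_›)

theorem isGeomReducedAt_descend {k k' : Type u} [Field k] [Field k'] {Z Z' : Scheme.{u}}
    {f₀ : Z ⟶ Spec (CommRingCat.of k)} {f₀' : Z' ⟶ Spec (CommRingCat.of k')} {π : Z' ⟶ Z}
    {φ : CommRingCat.of k ⟶ CommRingCat.of k'} (sq : IsPullback π f₀' f₀ (Spec.map φ)) (z : Z')
    (h : FBase.IsGeomReducedAt f₀' z) : FBase.IsGeomReducedAt f₀ (π z) := by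
  intro K _ _ a ha
  obtain ⟨w, hw₁, hw₂⟩ := Scheme.Pullback.exists_preimage_pullback (f := FBase.bcπ f₀ K) (g := π) a z ha
  let E := (pullback (FBase.bcπ f₀ K) π).residueField w
  let ω := (pullback (FBase.bcπ f₀ K) π).fromSpecResidueField w
  obtain ⟨α, hα⟩ := Spec.map_surjective (ω ≫ pullback.fst _ _ ≫ FBase.bcStr f₀ K)
  obtain ⟨β, hβ⟩ := Spec.map_surjective (ω ≫ pullback.snd _ _ ≫ f₀')
  letI : Algebra k' E := β.hom.toAlgebra
  let P' := FBase.bc f₀' E
  let v₀ : Spec (CommRingCat.of E) ⟶ P' := pullback.lift (ω ≫ pullback.snd _ _) (𝟙 _)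
    (by rw [Category.assoc, Category.id_comp]; exact hβ.symm)
  have hk : Spec.map α ≫ Spec.map (CommRingCat.ofHom (algebraMap k K)) = Spec.map β ≫ Spec.map φ := by
    rw [hα, hβ, Category.assoc, Category.assoc, Category.assoc, Category.assoc, ← sq.w,
      show FBase.bcStr f₀ K ≫ Spec.map (CommRingCat.ofHom (algebraMap k K)) = FBase.bcπ f₀ K ≫ f₀ from
        pullback.condition.symm]
    exact congrArg (ω ≫ ·) (pullback.condition_assoc f₀)
  have big : IsPullback (FBase.bcπ f₀' E ≫ π) (FBase.bcStr f₀' E) f₀ (Spec.map β ≫ Spec.map φ) :=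
    (IsPullback.of_hasPullback f₀' (Spec.map (CommRingCat.ofHom (algebraMap k' E)))).paste_horiz sq
  rw [← hk] at big
  let m : P' ⟶ FBase.bc f₀ K := pullback.lift (FBase.bcπ f₀' E ≫ π) (FBase.bcStr f₀' E ≫ Spec.map α)
    (by rw [Category.assoc]; exact big.w)
  have sqm : IsPullback m (FBase.bcStr f₀' E) (FBase.bcStr f₀ K) (Spec.map α) := by
    refine IsPullback.of_right ?_ (pullback.lift_snd _ _ _) (IsPullback.of_hasPullback _ _)
    rw [show m ≫ pullback.fst f₀ _ = _ from pullback.lift_fst _ _ _]
    exact big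
  haveI : Flat m := by
    refine MorphismProperty.of_isPullback (P := @Flat) sqm.flip ?_
    rw [HasRingHomProperty.Spec_iff (P := @Flat)]
    letI := α.hom.toAlgebra
    exact RingHom.flat_algebraMap_iff.mpr inferInstance
  let v : P' := v₀ (closedPoint E)
  have hv : FBase.bcπ f₀' E v = z := by
    show (v₀ ≫ pullback.fst _ _) (closedPoint E) = z
    rw [show v₀ ≫ pullback.fst _ _ = ω ≫ pullback.snd _ _ from pullback.lift_fst _ _ _, Scheme.Hom.comp_apply,
      show ω (closedPoint E) = w from Scheme.fromSpecResidueField_apply w _]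
    exact hw₂
  have hmv : m v = a := by
    have : v₀ ≫ m = ω ≫ pullback.fst _ _ := by
      apply pullback.hom_ext
      · refine (Category.assoc _ _ _).trans ?_
        refine Eq.trans ?_ (Category.assoc _ _ _).symm
        refine (congrArg (v₀ ≫ ·) (pullback.lift_fst _ _ _)).trans ?_
        refine ((Category.assoc _ _ _).symm.trans (congrArg (· ≫ π) (pullback.lift_fst _ _ _))).trans ?_
        refine (Category.assoc _ _ _).trans ?_
        exact congrArg (ω ≫ ·) pullback.condition.symm
      · refine (Category.assoc _ _ _).trans ?_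
        refine Eq.trans ?_ (Category.assoc _ _ _).symm
        refine (congrArg (v₀ ≫ ·) (pullback.lift_snd _ _ _)).trans ?_
        refine ((Category.assoc _ _ _).symm.trans (congrArg (· ≫ Spec.map α) (pullback.lift_snd _ _ _))).trans ?_
        exact (Category.id_comp _).trans hα
    show (v₀ ≫ m) (closedPoint E) = a
    rw [this, Scheme.Hom.comp_apply, show ω (closedPoint E) = w from Scheme.fromSpecResidueField_apply w _]
    exact hw₁
  exact hmv ▸ isReduced_of_flat_point m v (h E v hv)

end SecNhdLib
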