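import Mathlib
import Groth.Agent.ConsLib.General
import Groth.Agent.RichLib.LimitDescentFlat

/-!
# Flat Noetherian models of flat morphisms of finite presentation
-/

set_option autoImplicit false
universe u

open CategoryTheory CategoryTheory.Limits AlgebraicGeometry RichLib.LimBC Groth.Agent

noncomputable section

namespace SecNhdLib

theorem exists_flat_noetherian_model {X S : Scheme.{u}} [IsAffine S] (f : X ⟶ S) [Flat f]
    [LocallyOfFinitePresentation f] [QuasiCompact f] [QuasiSeparated f] :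
    ∃ (X₀ S₀ : Scheme.{u}) (f₀ : X₀ ⟶ S₀) (q : S ⟶ S₀) (p : X ⟶ X₀),
      IsNoetherian S₀ ∧ Flat f₀ ∧ LocallyOfFinitePresentation f₀ ∧ QuasiCompact f₀ ∧ QuasiSeparated f₀ ∧
        IsPullback p f f₀ q := by
  let A := ConsLib.zSys (Γ(S, ⊤) : Type u)
  haveI : ∀ i j (a : i ⟶ j), IsAffineHom (A.D.map a) := fun _ _ a => A.affine_map a
  haveI : ∀ i, IsNoetherian (A.D.obj i) := fun i => ConsLib.zSys_obj _ i
  let e : S ≅ A.c.pt := S.isoSpec ≪≫ (ConsLib.zSysIso _).symm
  obtain ⟨i, ⟨N⟩⟩ := DescFP.exists_model A.hc (f ≫ e.hom)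
  let B := ofStage A.D A.c A.hc i
  haveI := N.lfp
  haveI := N.qc
  haveI := N.qs
  have hlim : AtLim B N.p @Flat := by
    show Flat (pullback.snd N.p (A.c.π.app i))
    rw [show pullback.snd N.p (A.c.π.app i) = N.sq.isoPullback.inv ≫ (f ≫ e.hom) from
      N.sq.isoPullback_inv_snd.symm]
    infer_instance
  obtain ⟨φ, hφ⟩ := exists_at_flat B N.p hlim
  let f₀ := pullback.snd N.p (A.D.map φ.hom)
  refine ⟨_, _, f₀, e.hom ≫ A.c.π.app φ.left, N.sq.isoPullback.hom ≫ pbπ B N.p φ, inferInstance, hφ,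
    MorphismProperty.pullback_snd _ _ inferInstance, MorphismProperty.pullback_snd _ _ inferInstance,
    MorphismProperty.pullback_snd _ _ inferInstance, ?_⟩
  refine (isPullback_cone B N.p φ).of_iso N.sq.isoPullback.symm (Iso.refl _) e.symm (Iso.refl _) ?_ ?_ ?_ ?_
  · exact (Category.comp_id _).trans (Iso.inv_hom_id_assoc _ _).symm
  · rw [Iso.symm_hom, Iso.symm_hom, Iso.eq_inv_comp, ← Category.assoc, Iso.comp_inv_eq]
    exact N.sq.isoPullback_hom_snd
  · exact (Category.comp_id _).trans (Category.id_comp _).symm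
  · exact (Category.comp_id _).trans (Iso.inv_hom_id_assoc _ _).symm

end SecNhdLib
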