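import Mathlib
import Groth.Agent.S9501
import Groth.Agent.S2277
import Groth.Agent.DvrFlatLib.UnivOpen
import Groth.Agent.DvrFlatLib.ReducedScheme

/-!
# Connectedness of the punctured local spectrum along a regular element with reduced quotient
-/

set_option autoImplicit false
universe u

open CategoryTheory CategoryTheory.Limits AlgebraicGeometry TopologicalSpace Topology IsLocalRing

namespace SecNhdLib

theorem isIdempotentElem_away_cases {A : Type u} [CommRing A] [IsLocalRing A] {t : A}
    (ht : IsSMulRegular A t) (hred : _root_.IsReduced (A ⧸ Ideal.span {t})) (L : Type u) [CommRing L] [Algebra A L]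
    [IsLocalization.Away t L] {e : L} (he : IsIdempotentElem e) : e = 0 ∨ e = 1 := by
  have hinj : Function.Injective (algebraMap A L) := IsLocalization.injective L
    (Submonoid.powers_le.mpr (show t ∈ nonZeroDivisors A from mem_nonZeroDivisors_iff.mpr
      ⟨fun x hx => ht (show t • x = t • 0 by simp [smul_eq_mul, hx]),
        fun x hx => ht (show t • x = t • 0 by simpa [smul_eq_mul, mul_comm t] using hx)⟩))
  obtain ⟨⟨a, _, n, rfl⟩, hn⟩ := IsLocalization.surj (Submonoid.powers t) e
  simp only at hn
  induction n generalizing a with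
  | zero =>
    rw [pow_zero, map_one, mul_one] at hn
    subst hn
    rcases IsLocalRing.isUnit_or_isUnit_one_sub_self a with ha | ha
    · exact Or.inr ((ha.map (algebraMap A L)).mul_left_cancel (he.trans (mul_one _).symm))
    · left
      have h0 : algebraMap A L (1 - a) * algebraMap A L a = 0 := by
        rw [map_sub, map_one, sub_mul, one_mul, he, sub_self]
      exact (ha.map (algebraMap A L)).mul_right_eq_zero.mp h0
  | succ n ih =>
    have hsq : a * a = t ^ (n + 1) * a := hinj (by
      rw [map_mul, map_mul, map_pow, ← hn, map_pow]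
      linear_combination (algebraMap A L t ^ (n + 1)) ^ 2 * he.eq)
    have hmem : a ∈ Ideal.span {t} := by
      refine (Ideal.isRadical_iff_quotient_reduced _).mpr hred ⟨2, ?_⟩
      rw [pow_two, hsq, pow_succ']
      exact Ideal.mul_mem_right _ _ (Ideal.mul_mem_right _ _ (Ideal.mem_span_singleton_self t))
    obtain ⟨a', rfl⟩ := Ideal.mem_span_singleton'.mp hmem
    refine ih a' ?_
    rw [map_pow, map_mul] at hn
    rw [map_pow]
    refine (IsLocalization.Away.algebraMap_isUnit (S := L) t).mul_right_cancel ?_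
    linear_combination hn

theorem isPreconnected_basicOpen {A : Type u} [CommRing A] [IsLocalRing A] {t : A}
    (ht : IsSMulRegular A t) (hred : _root_.IsReduced (A ⧸ Ideal.span {t})) :
    _root_.IsPreconnected (PrimeSpectrum.basicOpen t : Set (PrimeSpectrum A)) := by
  rw [← PrimeSpectrum.localization_away_comap_range (Localization.Away t) t]
  haveI : PreconnectedSpace (PrimeSpectrum (Localization.Away t)) := by
    refine preconnectedSpace_iff_clopen.mpr fun s hs => ?_
    obtain ⟨e, he, rfl⟩ := PrimeSpectrum.exists_idempotent_basicOpen_eq_of_isClopen hs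
    rcases isIdempotentElem_away_cases ht hred _ he with rfl | rfl
    · exact Or.inl (by simp)
    · exact Or.inr (by simp)
  exact isPreconnected_range (PrimeSpectrum.continuous_comap _)

/-- Over a discrete valuation ring, the generizations in the generic fibre of a point of flatness with
reduced fibre form a nonempty connected set. -/
theorem isConnected_generizations {A : Type u} [CommRing A] [IsDomain A] [IsDiscreteValuationRing A]
    {P : Scheme.{u}} (b : P ⟶ Spec (CommRingCat.of A)) (w : P) (hb : b w = closedPoint A)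
    (hq : _root_.IsReduced (P.presheaf.stalk w ⧸
      (maximalIdeal ((Spec (CommRingCat.of A)).presheaf.stalk (b w))).map (b.stalkMap w).hom))
    (hflat : (b.stalkMap w).hom.Flat) :
    _root_.IsConnected {z : P | z ⤳ w ∧ b z ≠ closedPoint A} := by
  obtain ⟨ϖ, hϖ⟩ := IsDiscreteValuationRing.exists_irreducible A
  let σ : A →+* (Spec (CommRingCat.of A)).presheaf.stalk (b w) :=
    ((Scheme.ΓSpecIso (CommRingCat.of A)).inv ≫ (Spec (CommRingCat.of A)).presheaf.germ ⊤ (b w) trivial).hom
  let t : P.presheaf.stalk w := (b.stalkMap w).hom (σ ϖ)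
  have hmax : maximalIdeal ((Spec (CommRingCat.of A)).presheaf.stalk (b w)) = Ideal.span {σ ϖ} := by
    letI := σ.toAlgebra
    haveI : IsLocalization.AtPrime ((Spec (CommRingCat.of A)).presheaf.stalk (b w)) (b w).asIdeal :=
      StructureSheaf.IsLocalization.to_stalk A (b w)
    rw [← IsLocalization.AtPrime.map_eq_maximalIdeal (b w).asIdeal ((Spec (CommRingCat.of A)).presheaf.stalk (b w)),
      show (b w).asIdeal = maximalIdeal A from congrArg PrimeSpectrum.asIdeal hb, hϖ.maximalIdeal_eq,
      Ideal.map_span, Set.image_singleton]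
    rfl
  have hnz : IsSMulRegular ((Spec (CommRingCat.of A)).presheaf.stalk (b w)) (σ ϖ) := by
    letI := σ.toAlgebra
    haveI : IsLocalization.AtPrime ((Spec (CommRingCat.of A)).presheaf.stalk (b w)) (b w).asIdeal :=
      StructureSheaf.IsLocalization.to_stalk A (b w)
    haveI := IsLocalization.flat ((Spec (CommRingCat.of A)).presheaf.stalk (b w)) (b w).asIdeal.primeCompl
    exact (IsSMulRegular.of_ne_zero hϖ.ne_zero).of_flat
  letI : Algebra ((Spec (CommRingCat.of A)).presheaf.stalk (b w)) (P.presheaf.stalk w) := (b.stalkMap w).hom.toAlgebra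
  haveI : Module.Flat ((Spec (CommRingCat.of A)).presheaf.stalk (b w)) (P.presheaf.stalk w) := hflat
  have ht : IsSMulRegular (P.presheaf.stalk w) t := hnz.of_flat
  have hred : _root_.IsReduced (P.presheaf.stalk w ⧸ Ideal.span {t}) := by
    have h1 := hq
    rwa [hmax, Ideal.map_span, Set.image_singleton] at h1
  have hpre := isPreconnected_basicOpen ht hred
  have himg : (P.fromSpecStalk w).base '' (PrimeSpectrum.basicOpen t : Set (PrimeSpectrum (P.presheaf.stalk w))) =
      {z : P | z ⤳ w ∧ b z ≠ closedPoint A} := by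
    have hiff : ∀ q, b ((P.fromSpecStalk w).base q) = closedPoint A ↔ t ∈ q.asIdeal := by
      intro q
      have e : P.fromSpecStalk w ≫ b = Spec.map (b.stalkMap w) ≫ Spec.map (CommRingCat.ofHom σ) := by
        rw [← Scheme.SpecMap_stalkMap_fromSpecStalk, Spec.fromSpecStalk_eq]; rfl
      rw [← Scheme.Hom.comp_apply, e]
      constructor
      · intro h
        have : ϖ ∈ (maximalIdeal A) := hϖ.not_isUnit
        rw [show maximalIdeal A = (PrimeSpectrum.comap σ (PrimeSpectrum.comap (b.stalkMap w).hom q)).asIdeal from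
          congrArg PrimeSpectrum.asIdeal h.symm] at this
        exact this
      · intro h
        refine PrimeSpectrum.ext ?_
        show (PrimeSpectrum.comap σ (PrimeSpectrum.comap (b.stalkMap w).hom q)).asIdeal = maximalIdeal A
        refine le_antisymm (le_maximalIdeal Ideal.IsPrime.ne_top') ?_
        rw [hϖ.maximalIdeal_eq, Ideal.span_singleton_le_iff_mem]
        exact h
    ext z
    constructor
    · rintro ⟨q, hq, rfl⟩
      refine ⟨?_, fun h => hq ((hiff q).mp h)⟩
      exact (Scheme.range_fromSpecStalk (x := w)).le ⟨q, rfl⟩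
    · rintro ⟨hz, hzb⟩
      obtain ⟨q, rfl⟩ := (Scheme.range_fromSpecStalk (x := w)).ge hz
      exact ⟨q, fun h => hzb ((hiff q).mpr h), rfl⟩
  refine himg ▸ IsConnected.image ⟨?_, hpre⟩ _ (P.fromSpecStalk w).continuous.continuousOn
  by_contra hne
  rw [Set.not_nonempty_iff_eq_empty] at hne
  obtain ⟨n, hn⟩ := (PrimeSpectrum.basicOpen_eq_bot_iff t).mp (SetLike.coe_injective (by simpa using hne))
  exact one_ne_zero ((ht.pow n) (show t ^ n • (1 : P.presheaf.stalk w) = t ^ n • 0 by simp [smul_eq_mul, hn]))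

/-- Components of the open generic fibre see all generizations of a connected part of the closed fibre. -/
theorem mem_connectedComponentIn_of_specializes {P : Scheme.{u}} [IsLocallyNoetherian P] {E : Set P}
    (hE : IsOpen E) {C₀ : Set P} (hC : _root_.IsPreconnected C₀)
    (hG : ∀ w ∈ C₀, _root_.IsConnected {z : P | z ⤳ w ∧ z ∈ E})
    {w₁ w₂ z₁ z₂ : P} (h₁ : w₁ ∈ C₀) (h₂ : w₂ ∈ C₀) (hz₁ : z₁ ⤳ w₁) (hz₁E : z₁ ∈ E) (hz₂ : z₂ ⤳ w₂)
    (hz₂E : z₂ ∈ E) : z₂ ∈ connectedComponentIn E z₁ := by
  let K := connectedComponentIn E z₁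
  haveI : LocallyConnectedSpace P := Groth.Agent.S2277.result P fun a => by
    obtain ⟨_, ⟨W, hW, rfl⟩, haW, -⟩ := P.isBasis_affineOpens.exists_subset_of_mem_open (Set.mem_univ a) isOpen_univ
    haveI : IsNoetherianRing Γ(P, W) := IsLocallyNoetherian.component_noetherian ⟨W, hW⟩
    exact ⟨W, W.isOpen.mem_nhds haW, noetherianSpace_of_isAffineOpen W hW⟩
  have hK : IsOpen K := hE.connectedComponentIn
  have hK' : IsOpen (E \ K) := by
    rw [isOpen_iff_forall_mem_open]
    rintro z ⟨hzE, hzK⟩
    refine ⟨connectedComponentIn E z, fun v hv => ⟨connectedComponentIn_subset _ _ hv, fun hvK => hzK ?_⟩,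
      hE.connectedComponentIn, mem_connectedComponentIn hzE⟩
    show z ∈ connectedComponentIn E z₁
    rw [connectedComponentIn_eq hvK, ← connectedComponentIn_eq hv]
    exact mem_connectedComponentIn hzE
  have key : ∀ O : Set P, IsOpen O → ∀ w ∈ closure O, ∃ z ∈ O, z ⤳ w := by
    intro O hO w hw
    obtain ⟨W, hW, hwW⟩ : ∃ W : P.Opens, IsAffineOpen W ∧ w ∈ W := by
      obtain ⟨_, ⟨W, hW, rfl⟩, hwW, -⟩ := P.isBasis_affineOpens.exists_subset_of_mem_open (Set.mem_univ w) isOpen_univ
      exact ⟨W, hW, hwW⟩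
    haveI : IsNoetherianRing Γ(P, W) := IsLocallyNoetherian.component_noetherian ⟨W, hW⟩
    haveI : NoetherianSpace W := noetherianSpace_of_isAffineOpen W hW
    have hfin := NoetherianSpace.finite_irreducibleComponents (α := W.toScheme)
    let S : Set (Set W.toScheme) := {Z ∈ irreducibleComponents ↥W.toScheme | (Z ∩ W.ι.base ⁻¹' O).Nonempty}
    have hcl : IsClosed (⋃ Z ∈ S, Z) := (hfin.subset fun Z hZ => hZ.1).isClosed_biUnion fun Z hZ =>
      isClosed_of_mem_irreducibleComponents Z hZ.1
    have hsub : W.ι.base ⁻¹' O ⊆ ⋃ Z ∈ S, Z := fun v hv =>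
      Set.mem_biUnion (x := irreducibleComponent v)
        ⟨irreducibleComponent_mem_irreducibleComponents _, v, mem_irreducibleComponent, hv⟩ mem_irreducibleComponent
    have hwcl : (⟨w, hwW⟩ : W.toScheme) ∈ closure (W.ι.base ⁻¹' O) := by
      rw [← W.ι.isOpenEmbedding.isOpenMap.preimage_closure_eq_closure_preimage W.ι.continuous]
      exact hw
    obtain ⟨Z, hZ, hwZ⟩ := Set.mem_iUnion₂.mp (closure_minimal hsub hcl hwcl)
    obtain ⟨g, hg⟩ := QuasiSober.sober hZ.1.1 (isClosed_of_mem_irreducibleComponents Z hZ.1)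
    obtain ⟨v, hvZ, hvO⟩ := hZ.2
    exact ⟨W.ι.base g, (hg.specializes hvZ).mem_open (hO.preimage W.ι.continuous) hvO,
      (hg.specializes hwZ).map W.ι.continuous⟩
  by_contra hz₂K
  obtain ⟨w, hw, hwK, hwK'⟩ := isPreconnected_closed_iff.mp hC (closure K) (closure (E \ K)) isClosed_closure
    isClosed_closure (fun w hw => by
      obtain ⟨z, hzw, hzE⟩ := (hG w hw).nonempty
      by_cases hzK : z ∈ K
      · exact Or.inl ((hzw.mem_closed isClosed_closure) (subset_closure hzK))
      · exact Or.inr ((hzw.mem_closed isClosed_closure) (subset_closure ⟨hzE, hzK⟩)))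
    ⟨w₁, h₁, hz₁.mem_closed isClosed_closure (subset_closure (mem_connectedComponentIn hz₁E))⟩
    ⟨w₂, h₂, hz₂.mem_closed isClosed_closure (subset_closure ⟨hz₂E, hz₂K⟩)⟩
  obtain ⟨a, haK, haw⟩ := key K hK w hwK
  obtain ⟨c, ⟨hcE, hcK⟩, hcw⟩ := key (E \ K) hK' w hwK'
  refine hcK ?_
  have hsub : {z : P | z ⤳ w ∧ z ∈ E} ⊆ K := by
    show _ ⊆ connectedComponentIn E z₁
    rw [connectedComponentIn_eq haK]
    exact (hG w hw).isPreconnected.subset_connectedComponentIn ⟨haw, connectedComponentIn_subset _ _ haK⟩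
      fun z hz => hz.2
  exact hsub ⟨hcw, hcE⟩

end SecNhdLib
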