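import Mathlib
import Groth.Prelude.Def_EGA43
import Groth.Prelude.Def_MoreMor
import Groth.Agent.SecNhdLib.Local
import Groth.Agent.DvrDom.Scheme
import Groth.Agent.S1324

/-!
# Stability of section components under generization over a locally Noetherian base
-/

set_option autoImplicit false
universe u

open CategoryTheory CategoryTheory.Limits AlgebraicGeometry TopologicalSpace Topology IsLocalRing

namespace SecNhdLib

variable {X Y : Scheme.{u}} (f : X ⟶ Y)

/-- Over every discrete valuation ring, the points over `x` in the closed fibre are points of flatness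
with reduced fibre. -/
def DvrHyp (x : X) : Prop :=
  ∀ (A : Type u) [CommRing A] [IsDomain A] [IsDiscreteValuationRing A] (h : Spec (CommRingCat.of A) ⟶ Y)
    (w : ↥(pullback f h)), pullback.fst f h w = x → pullback.snd f h w = closedPoint A →
    ((pullback.snd f h).stalkMap w).hom.Flat ∧
      _root_.IsReduced ((pullback f h).presheaf.stalk w ⧸
        (maximalIdeal ((Spec (CommRingCat.of A)).presheaf.stalk (pullback.snd f h w))).map
          ((pullback.snd f h).stalkMap w).hom)

variable {f}

theorem dvrHyp_of_univOpen [LocallyOfFiniteType f] {x : X}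
    (hopen : ∀ z : X, f z = f x → z ⤳ x → EGA43.IsUnivOpenAt f z)
    (hred : FBase.IsGeomReducedAt (f.fiberToSpecResidueField (f x)) (f.asFiber x)) : DvrHyp f x := by
  intro A _ _ _ h w hw hb
  refine ⟨DvrFlatLib.flat_stalkMap_baseChange_dvr f x (fun z hz _ => hopen _ ?_ ?_) hred
    (IsPullback.of_hasPullback f h) w hw hb, ?_⟩
  · exact (f.range_fiberι (f x)).le ⟨z, rfl⟩
  · have h1 := (specializes_iff_mem_closure.mpr hz).map (f.fiberι (f x)).continuous
    rwa [f.fiberι_asFiber] at h1
  · haveI := DvrFlatLib.isReduced_fiber_baseChange f x hred (IsPullback.of_hasPullback f h) w hw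
    exact DvrFlatLib.isReduced_stalk_quotient (pullback.snd f h) w

theorem dvrHyp_of_flat [Flat f] {x : X}
    (hred : FBase.IsGeomReducedAt (f.fiberToSpecResidueField (f x)) (f.asFiber x)) : DvrHyp f x := by
  intro A _ _ _ h w hw _
  refine ⟨Flat.stalkMap (pullback.snd f h) w, ?_⟩
  haveI := DvrFlatLib.isReduced_fiber_baseChange f x hred (IsPullback.of_hasPullback f h) w hw
  exact DvrFlatLib.isReduced_stalk_quotient (pullback.snd f h) w

theorem transfer_openImmersion {P Q S : Scheme.{u}} (m : P ⟶ Q) [IsOpenImmersion m] (b : Q ⟶ S) (b' : P ⟶ S)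
    (he : m ≫ b = b') (w : P) (hfl : (b.stalkMap (m w)).hom.Flat)
    (hred : _root_.IsReduced (Q.presheaf.stalk (m w) ⧸
      (maximalIdeal (S.presheaf.stalk (b (m w)))).map (b.stalkMap (m w)).hom)) :
    (b'.stalkMap w).hom.Flat ∧ _root_.IsReduced (P.presheaf.stalk w ⧸
      (maximalIdeal (S.presheaf.stalk (b' w))).map (b'.stalkMap w).hom) := by
  subst he
  let e := (asIso (m.stalkMap w)).commRingCatIsoToRingEquiv
  have hcomp : ((m ≫ b).stalkMap w).hom = e.toRingHom.comp (b.stalkMap (m w)).hom := by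
    rw [Scheme.Hom.stalkMap_comp]
    rfl
  refine ⟨?_, ?_⟩
  · rw [hcomp]
    exact RingHom.Flat.comp hfl (RingHom.Flat.of_bijective e.bijective)
  · haveI := hred
    let E := Ideal.quotientEquiv ((maximalIdeal (S.presheaf.stalk (b (m w)))).map (b.stalkMap (m w)).hom)
      ((maximalIdeal (S.presheaf.stalk ((m ≫ b) w))).map ((m ≫ b).stalkMap w).hom) e ?_
    · exact isReduced_of_injective E.symm E.symm.injective
    rw [hcomp]
    exact ((Ideal.map_map (I := maximalIdeal (S.presheaf.stalk (b (m w)))) (b.stalkMap (m w)).hom e.toRingHom)).symm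

theorem dvrHyp_openImmersion {U V : Scheme.{u}} (i : U ⟶ X) [IsOpenImmersion i] (j : V ⟶ Y) [IsOpenImmersion j]
    (fU : U ⟶ V) (hsq : fU ≫ j = i ≫ f) (u : U) (hyp : DvrHyp f (i u)) : DvrHyp fU u := by
  intro A _ _ _ h w hw hb
  let m : pullback fU h ⟶ pullback f (h ≫ j) :=
    pullback.map fU h f (h ≫ j) i (𝟙 _) j hsq (Category.id_comp _).symm
  have hm : m ≫ pullback.snd f (h ≫ j) = pullback.snd fU h := (pullback.lift_snd _ _ _).trans (Category.comp_id _)
  obtain ⟨hfl, hred⟩ := hyp A (h ≫ j) (m w)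
    (by rw [← Scheme.Hom.comp_apply, show m ≫ pullback.fst f (h ≫ j) = pullback.fst fU h ≫ i from
      pullback.lift_fst _ _ _, Scheme.Hom.comp_apply, hw])
    (by rw [← Scheme.Hom.comp_apply, hm, hb])
  exact transfer_openImmersion m _ _ hm w hfl hred

/-- Section components contain the generizations of the component through the section. -/
theorem mem_sectionComponents_of_specializes [IsLocallyNoetherian Y] [LocallyOfFiniteType f] (g : Y ⟶ X)
    (hg : g ≫ f = 𝟙 Y) (y : Y) (H : ∀ z ∈ connectedComponentIn (f ⁻¹' {y}) (g y), DvrHyp f z)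
    {x x' : X} (hx : x ∈ connectedComponentIn (f ⁻¹' {y}) (g y)) (hsp : x' ⤳ x) :
    x' ∈ MoreMor.sectionComponents f g := by
  have hfx : f x = y := (connectedComponentIn_subset _ _ hx :)
  by_cases hy : f x' = y
  · show x' ∈ connectedComponentIn (f ⁻¹' {f x'}) (g (f x'))
    rw [hy, connectedComponentIn_eq hx]
    have hpre : _root_.IsPreconnected (f ⁻¹' {y} ∩ closure {x'}) := by
      refine isPreconnected_singleton.subset_closure (s := {x'}) ?_ Set.inter_subset_right
      rintro z rfl
      exact ⟨hy, subset_closure rfl⟩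
    exact hpre.subset_connectedComponentIn ⟨hfx, hsp.mem_closure⟩ Set.inter_subset_left ⟨hy, subset_closure rfl⟩
  haveI : IsLocallyNoetherian X := LocallyOfFiniteType.isLocallyNoetherian f
  have hne : x ≠ x' := fun e => hy (e ▸ hfx)
  obtain ⟨A, hX, hA, hcl, hgen⟩ := DvrDomLib.exists_dvr_through_specialization (𝟙 X) x' x hsp hne
  rw [Category.comp_id] at hgen
  haveI := hA
  let S := Spec (CommRingCat.of A)
  let h : S ⟶ Y := hX ≫ f
  let P := pullback f h
  let p : P ⟶ X := pullback.fst f h
  let b : P ⟶ S := pullback.snd f h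
  haveI : LocallyOfFiniteType b := MorphismProperty.pullback_snd _ _ inferInstance
  haveI : IsLocallyNoetherian P := LocallyOfFiniteType.isLocallyNoetherian b
  let σ : S ⟶ P := pullback.lift (h ≫ g) (𝟙 S) (by rw [Category.assoc, hg, Category.comp_id, Category.id_comp])
  let τ : S ⟶ P := pullback.lift hX (𝟙 S) (Category.id_comp _).symm
  have hσ : σ ≫ b = 𝟙 S := pullback.lift_snd _ _ _
  have hbσ : ∀ s, b (σ s) = s := fun s => by rw [← Scheme.Hom.comp_apply, hσ]; rfl
  have hbτ : ∀ s, b (τ s) = s := fun s => by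
    rw [← Scheme.Hom.comp_apply, show τ ≫ b = 𝟙 S from pullback.lift_snd _ _ _]; rfl
  have hpτ : ∀ s, p (τ s) = hX s := fun s => by
    rw [← Scheme.Hom.comp_apply, show τ ≫ p = hX from pullback.lift_fst _ _ _]
  have hSC : MoreMor.sectionComponents b σ = p ⁻¹' MoreMor.sectionComponents f g :=
    Groth.Agent.S1324.result f g hg b p h (IsPullback.of_hasPullback _ _) σ hσ (pullback.lift_fst _ _ _)
  let s : S := closedPoint A
  let η : S := Spec.map (CommRingCat.ofHom A.subtype) (closedPoint (X.residueField x'))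
  have hηx : hX η = x' := by
    rw [← Scheme.Hom.comp_apply, hgen]; exact X.fromSpecResidueField_apply x' _
  have hsη : (η : S) ≠ s := fun e => hne (hcl.symm.trans ((congrArg hX.base e).symm.trans hηx))
  have hηle : (η : S).asIdeal = ⊥ := by
    show Ideal.comap A.subtype (maximalIdeal (X.residueField x')) = ⊥
    rw [maximalIdeal_eq_bot, ← RingHom.ker_eq_comap_bot]
    exact (RingHom.injective_iff_ker_eq_bot _).mp Subtype.val_injective
  have hηs : η ⤳ s := (PrimeSpectrum.le_iff_specializes η s).mp (show η.asIdeal ≤ s.asIdeal from hηle ▸ bot_le)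
  have htwo : ∀ q : S, q ≠ s → q = η := fun q hq => by
    refine PrimeSpectrum.ext ?_
    rw [hηle]
    by_contra hne'
    exact hq (PrimeSpectrum.ext ((IsLocalRing.eq_maximalIdeal (q.isPrime.isMaximal hne'))))
  let E : Set P := {z | b z ≠ s}
  have hE : IsOpen E := by
    have : IsClosed ({s} : Set S) := (PrimeSpectrum.isClosed_singleton_iff_isMaximal _).mpr (maximalIdeal.isMaximal A)
    exact (this.preimage b.continuous).isOpen_compl
  have hEη : E = b ⁻¹' {η} := Set.ext fun z => ⟨htwo _, fun hz => by rw [Set.mem_setOf_eq, Set.mem_singleton_iff.mp hz]; exact hsη⟩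
  let C₀ : Set P := connectedComponentIn (b ⁻¹' {s}) (σ s)
  have hC₀ : ∀ w, w ∈ C₀ ↔ b w = s ∧ p w ∈ MoreMor.sectionComponents f g := fun w => by
    constructor
    · intro hw
      have hbw : b w = s := (connectedComponentIn_subset _ _ hw :)
      refine ⟨hbw, ?_⟩
      have : w ∈ MoreMor.sectionComponents b σ := by
        show w ∈ connectedComponentIn (b ⁻¹' {b w}) (σ (b w))
        rw [hbw]; exact hw
      rwa [hSC] at this
    · rintro ⟨hbw, hw⟩
      have : w ∈ MoreMor.sectionComponents b σ := by rw [hSC]; exact hw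
      have h2 : w ∈ connectedComponentIn (b ⁻¹' {b w}) (σ (b w)) := this
      rwa [hbw] at h2
  have hpw : ∀ w, b w = s → f (p w) = y := fun w hw => by
    rw [← Scheme.Hom.comp_apply, show p ≫ f = b ≫ h from pullback.condition, Scheme.Hom.comp_apply, hw,
      Scheme.Hom.comp_apply, hcl, hfx]
  have hG : ∀ w ∈ C₀, _root_.IsConnected {z : P | z ⤳ w ∧ z ∈ E} := fun w hw => by
    obtain ⟨hbw, hpC⟩ := (hC₀ w).mp hw
    have hz : p w ∈ connectedComponentIn (f ⁻¹' {f (p w)}) (g (f (p w))) := hpC
    rw [hpw w hbw] at hz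
    obtain ⟨hfl, hred⟩ := H (p w) hz A h w rfl hbw
    exact isConnected_generizations b w hbw hred hfl
  have h₂ : τ s ∈ C₀ := (hC₀ _).mpr ⟨hbτ s, by
    rw [hpτ, hcl]
    show x ∈ connectedComponentIn (f ⁻¹' {f x}) (g (f x))
    rw [hfx]; exact hx⟩
  have key := mem_connectedComponentIn_of_specializes hE isPreconnected_connectedComponentIn hG
    (mem_connectedComponentIn (hbσ s)) h₂ (hηs.map σ.continuous) (show b (σ η) ≠ s by rwa [hbσ])
    (hηs.map τ.continuous) (show b (τ η) ≠ s by rwa [hbτ])
  rw [hEη] at key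
  have : τ η ∈ MoreMor.sectionComponents b σ := by
    show τ η ∈ connectedComponentIn (b ⁻¹' {b (τ η)}) (σ (b (τ η)))
    rw [hbτ]; exact key
  rw [hSC, Set.mem_preimage, hpτ, hηx] at this
  exact this

end SecNhdLib
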