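import Mathlib
import Groth.Agent.SecNhdLib.Main
import Groth.Agent.GISpreadLib.Cons
import Groth.Agent.S2277

/-!
# Section components are neighbourhoods
-/

set_option autoImplicit false
universe u

open CategoryTheory CategoryTheory.Limits AlgebraicGeometry TopologicalSpace Topology IsLocalRing

namespace SecNhdLib

theorem image_connectedComponentIn {α β : Type*} [TopologicalSpace α] [TopologicalSpace β] {e : α → β}
    (he : IsEmbedding e) {s : Set α} {a : α} (ha : a ∈ s) :
    e '' connectedComponentIn s a = connectedComponentIn (e '' s) (e a) := by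
  refine Set.Subset.antisymm ((isPreconnected_connectedComponentIn.image e he.continuous.continuousOn).subset_connectedComponentIn
    ⟨a, mem_connectedComponentIn ha, rfl⟩ (Set.image_mono (connectedComponentIn_subset s a))) fun b hb => ?_
  let T := e ⁻¹' connectedComponentIn (e '' s) (e a)
  have hTs : T ⊆ s := fun z hz => he.injective.mem_set_image.mp (connectedComponentIn_subset _ _ hz)
  have himg : e '' T = connectedComponentIn (e '' s) (e a) :=
    Set.image_preimage_eq_of_subset fun z hz => Set.image_subset_range e s (connectedComponentIn_subset _ _ hz)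
  have hT : _root_.IsPreconnected T := he.isInducing.isPreconnected_image.mp (himg ▸ isPreconnected_connectedComponentIn)
  obtain ⟨z, hz, rfl⟩ := connectedComponentIn_subset _ _ hb
  exact ⟨z, hT.subset_connectedComponentIn (show a ∈ T from mem_connectedComponentIn (Set.mem_image_of_mem e ha)) hTs hb, rfl⟩

variable {X Y : Scheme.{u}} (f : X ⟶ Y)

/-- Two points of a fibre component are joined inside a quasi-compact open. -/
theorem exists_compact_open_joining [LocallyOfFiniteType f] (y : Y) {a c : X} (O : X.Opens) (hO : f ⁻¹' {y} ⊆ O)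
    (hc : c ∈ connectedComponentIn (f ⁻¹' {y}) a) (ha : f a = y) :
    ∃ U : X.Opens, U ≤ O ∧ IsCompact (U : Set X) ∧ a ∈ U ∧
      c ∈ connectedComponentIn ((U : Set X) ∩ f ⁻¹' {y}) a := by
  let F : Set X := f ⁻¹' {y}
  haveI : LocallyConnectedSpace F := by
    haveI : LocallyOfFiniteType (f.fiberToSpecResidueField y) := MorphismProperty.pullback_snd _ _ inferInstance
    haveI : IsLocallyNoetherian (f.fiber y) :=
      LocallyOfFiniteType.isLocallyNoetherian (f.fiberToSpecResidueField y)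
    haveI : LocallyConnectedSpace (f.fiber y) := Groth.Agent.S2277.result _ fun z => by
      obtain ⟨W, hW, hzW⟩ := GISpreadLib.exists_affine_mem z
      haveI : IsNoetherianRing Γ(f.fiber y, W) := IsLocallyNoetherian.component_noetherian ⟨W, hW⟩
      exact ⟨W, W.isOpen.mem_nhds hzW, noetherianSpace_of_isAffineOpen W hW⟩
    exact (f.fiberHomeo y).symm.locallyConnectedSpace
  let R : F → F → Prop := fun u v => ∃ U : X.Opens, U ≤ O ∧ IsCompact (U : Set X) ∧ u.1 ∈ U ∧
    v.1 ∈ connectedComponentIn ((U : Set X) ∩ F) u.1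
  have hsymm : ∀ u v, R u v → R v u := fun u v ⟨U, hUO, hU, hu, hv⟩ => by
    refine ⟨U, hUO, hU, (connectedComponentIn_subset _ _ hv).1, ?_⟩
    rw [← connectedComponentIn_eq hv]
    exact mem_connectedComponentIn ⟨hu, u.2⟩
  have htrans : ∀ u v w, R u v → R v w → R u w := fun u v w ⟨U, hUO, hU, hu, hv⟩ ⟨U', hUO', hU', hv', hw⟩ => by
    refine ⟨U ⊔ U', sup_le hUO hUO', by rw [Opens.coe_sup]; exact hU.union hU', Or.inl hu, ?_⟩
    have h1 := connectedComponentIn_mono u.1 (Set.inter_subset_inter_left F (Set.subset_union_left (t := (U' : Set X)))) hv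
    have h2 := connectedComponentIn_mono v.1 (Set.inter_subset_inter_left F (Set.subset_union_right (s := (U : Set X)))) hw
    rw [Opens.coe_sup, connectedComponentIn_eq h1]
    exact h2
  have hloc : ∀ u, ∃ N : Set F, IsOpen N ∧ u ∈ N ∧ ∀ v ∈ N, R u v := fun u => by
    obtain ⟨W, hW, huW, hWO⟩ : ∃ W : X.Opens, IsAffineOpen W ∧ u.1 ∈ W ∧ W ≤ O := by
      obtain ⟨W, hW, huW, hWO⟩ := exists_isAffineOpen_mem_and_subset (x := u.1) (U := O) (hO u.2)
      exact ⟨W, hW, huW, hWO⟩
    let N : Set F := Subtype.val ⁻¹' (W : Set X)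
    refine ⟨connectedComponentIn N u, (W.isOpen.preimage continuous_subtype_val).connectedComponentIn,
      mem_connectedComponentIn huW, fun v hv => ⟨W, hWO, hW.isCompact, huW, ?_⟩⟩
    refine (isPreconnected_connectedComponentIn.image Subtype.val continuous_subtype_val.continuousOn).subset_connectedComponentIn
      ⟨u, mem_connectedComponentIn huW, rfl⟩ ?_ ⟨v, hv, rfl⟩
    rintro _ ⟨z, hz, rfl⟩
    exact ⟨(connectedComponentIn_subset _ _ hz :), z.2⟩
  let a' : F := ⟨a, ha⟩
  let T : Set F := {v | R a' v}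
  have hT : IsClopen T := by
    refine ⟨?_, isOpen_iff_forall_mem_open.mpr fun v hv => ?_⟩
    · rw [← isOpen_compl_iff, isOpen_iff_forall_mem_open]
      intro v hv
      obtain ⟨O, hO, hvO, hR⟩ := hloc v
      exact ⟨O, fun w hw h => hv (htrans _ _ _ h (hsymm _ _ (hR w hw))), hO, hvO⟩
    · obtain ⟨O, hO, hvO, hR⟩ := hloc v
      exact ⟨O, fun w hw => htrans _ _ _ hv (hR w hw), hO, hvO⟩
  have haT : a' ∈ T := by
    obtain ⟨O, -, hvO, hR⟩ := hloc a'
    exact hR _ hvO
  have hc' := hc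
  rw [connectedComponentIn_eq_image (show a ∈ F from ha)] at hc'
  obtain ⟨c', hc'', rfl⟩ := hc'
  exact hT.connectedComponent_subset haT hc''

variable [LocallyOfFiniteType f]

/-- A quasi-compact restriction around a point of the component of a section. -/
theorem exists_restriction (g : Y ⟶ X) (hg : g ≫ f = 𝟙 Y) (y : Y) {x : X}
    (hx : x ∈ connectedComponentIn (f ⁻¹' {y}) (g y)) :
    ∃ (W : Y.Opens) (U' : X.Opens) (fU : U'.toScheme ⟶ W.toScheme) (gU : W.toScheme ⟶ U'.toScheme)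
      (y' : W.toScheme) (x' : U'.toScheme), IsAffineOpen W ∧ gU ≫ fU = 𝟙 _ ∧ fU ≫ W.ι = U'.ι ≫ f ∧
      QuasiCompact fU ∧ W.ι y' = y ∧ U'.ι x' = x ∧ x' ∈ connectedComponentIn (fU ⁻¹' {y'}) (gU y') ∧
      (∀ u ∈ connectedComponentIn (fU ⁻¹' {y'}) (gU y'), U'.ι u ∈ connectedComponentIn (f ⁻¹' {y}) (g y)) ∧
      U'.ι.base '' MoreMor.sectionComponents fU gU ⊆ MoreMor.sectionComponents f g := by
  have hgy : ∀ z, f (g z) = z := fun z => by rw [← Scheme.Hom.comp_apply, hg]; rfl
  obtain ⟨W₀, hW₀, hyW₀⟩ := GISpreadLib.exists_affine_mem y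
  obtain ⟨U, hUO, hU, hgU, hxU⟩ := exists_compact_open_joining f y (f ⁻¹ᵁ W₀)
    (fun z hz => show f z ∈ W₀ from (show f z = y from hz).symm ▸ hyW₀) hx (hgy y)
  obtain ⟨W, hW, hyW, hWU⟩ := exists_isAffineOpen_mem_and_subset (x := y) (U := (g ⁻¹ᵁ U) ⊓ W₀) ⟨hgU, hyW₀⟩
  have hWU' : ∀ z ∈ W, g z ∈ U := fun z hz => (hWU hz).1
  let U' : X.Opens := U ⊓ f ⁻¹ᵁ W
  have hUW : (U' : Set X) ⊆ f ⁻¹' (W : Set Y) := fun z hz => hz.2
  have hU'c : IsCompact (U' : Set X) := by
    haveI : CompactSpace U.toScheme := isCompact_iff_compactSpace.mp hU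
    haveI : IsAffine W₀.toScheme := hW₀
    let k : U.toScheme ⟶ W₀.toScheme := IsOpenImmersion.lift W₀.ι (U.ι ≫ f) (by
      rintro _ ⟨u, rfl⟩
      rw [Scheme.Opens.range_ι]
      exact hUO u.2)
    haveI : QuasiCompact k := QuasiCompact.of_comp k (terminal.from _)
    have hk : k ≫ W₀.ι = U.ι ≫ f := IsOpenImmersion.lift_fac _ _ _
    have hWc : IsCompact ((W₀.ι ⁻¹ᵁ W : W₀.toScheme.Opens) : Set W₀.toScheme) :=
      (W₀.ι.isOpenEmbedding.isEmbedding.isCompact_iff).mpr (by
        show IsCompact (W₀.ι.base '' (W₀.ι.base ⁻¹' (W : Set Y)))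
        rw [Set.image_preimage_eq_of_subset (by rw [Scheme.Opens.range_ι]; exact fun z hz => (hWU hz).2)]
        exact hW.isCompact)
    have h1 := QuasiCompact.isCompact_preimage (f := k) _ (W₀.ι ⁻¹ᵁ W).isOpen hWc
    have h2 := h1.image U.ι.continuous
    convert h2 using 1
    ext z
    constructor
    · rintro ⟨hzU, hzW⟩
      exact ⟨⟨z, hzU⟩, show W₀.ι (k ⟨z, hzU⟩) ∈ W by rw [← Scheme.Hom.comp_apply, hk]; exact hzW, rfl⟩
    · rintro ⟨u, hu, rfl⟩
      refine ⟨u.2, show f (U.ι u) ∈ W from ?_⟩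
      rw [← Scheme.Hom.comp_apply, ← hk]
      exact hu
  let fU : U'.toScheme ⟶ W.toScheme := IsOpenImmersion.lift W.ι (U'.ι ≫ f) (by
    rintro _ ⟨u, rfl⟩
    rw [Scheme.Opens.range_ι]
    exact hUW u.2)
  have hfU : fU ≫ W.ι = U'.ι ≫ f := IsOpenImmersion.lift_fac _ _ _
  let gU : W.toScheme ⟶ U'.toScheme := IsOpenImmersion.lift U'.ι (W.ι ≫ g) (by
    rintro _ ⟨u, rfl⟩
    rw [Scheme.Opens.range_ι]
    exact ⟨hWU' _ u.2, show f (g (W.ι u)) ∈ W from (hgy _).symm ▸ u.2⟩)
  have hgU' : gU ≫ U'.ι = W.ι ≫ g := IsOpenImmersion.lift_fac _ _ _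
  have hsec : gU ≫ fU = 𝟙 _ := by
    rw [← cancel_mono W.ι, Category.assoc, hfU, reassoc_of% hgU', hg, Category.comp_id, Category.id_comp]
  have hfib : ∀ w : W.toScheme, U'.ι.base '' (fU ⁻¹' {w}) = (U : Set X) ∩ f ⁻¹' {W.ι w} := fun w => by
    ext z
    constructor
    · rintro ⟨u, hu, rfl⟩
      refine ⟨u.2.1, show f (U'.ι u) = W.ι w from ?_⟩
      rw [← Scheme.Hom.comp_apply, ← hfU, Scheme.Hom.comp_apply, show fU u = w from hu]
    · rintro ⟨hzU, hz⟩
      refine ⟨⟨z, hzU, show f z ∈ W from (Set.mem_singleton_iff.mp hz).symm ▸ w.2⟩, ?_, rfl⟩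
      apply W.ι.isOpenEmbedding.injective
      rw [← Scheme.Hom.comp_apply, hfU, Scheme.Hom.comp_apply]
      exact hz
  have hcomp : ∀ (w : W.toScheme) (u : U'.toScheme), u ∈ connectedComponentIn (fU ⁻¹' {w}) (gU w) ↔
      U'.ι u ∈ connectedComponentIn ((U : Set X) ∩ f ⁻¹' {W.ι w}) (g (W.ι w)) := fun w u => by
    have hwm : gU w ∈ fU ⁻¹' {w} := by
      show fU (gU w) = w
      rw [← Scheme.Hom.comp_apply, hsec]; rfl
    have hgw : U'.ι (gU w) = g (W.ι w) := by rw [← Scheme.Hom.comp_apply, hgU', Scheme.Hom.comp_apply]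
    rw [← hgw, ← hfib, ← image_connectedComponentIn U'.ι.isEmbedding hwm]
    exact (U'.ι.isEmbedding.injective.mem_set_image).symm
  refine ⟨W, U', fU, gU, ⟨y, hyW⟩, ⟨x, (connectedComponentIn_subset _ _ hxU).1,
    show f x ∈ W from (show f x = y from (connectedComponentIn_subset _ _ hx :)).symm ▸ hyW⟩, hW, hsec, hfU, ?_,
    rfl, rfl, (hcomp _ _).mpr hxU,
    fun u hu => connectedComponentIn_mono _ Set.inter_subset_right ((hcomp _ u).mp hu), ?_⟩
  · haveI : IsAffine W.toScheme := hW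
    haveI : CompactSpace U'.toScheme := isCompact_iff_compactSpace.mp hU'c
    exact QuasiCompact.of_comp fU (terminal.from _)
  · rintro _ ⟨v, hv, rfl⟩
    have h1 := (hcomp (fU v) v).mp hv
    have h2 : f (U'.ι v) = W.ι (fU v) := by rw [← Scheme.Hom.comp_apply, ← hfU, Scheme.Hom.comp_apply]
    show U'.ι v ∈ connectedComponentIn (f ⁻¹' {f (U'.ι v)}) (g (f (U'.ι v)))
    rw [h2]
    exact connectedComponentIn_mono _ Set.inter_subset_right h1

/-- The neighbourhood theorem. -/
theorem connectedComponentIn_subset_interior [IsLocallyNoetherian Y] (g : Y ⟶ X) (hg : g ≫ f = 𝟙 Y) (y : Y)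
    (H : ∀ z ∈ connectedComponentIn (f ⁻¹' {y}) (g y), DvrHyp f z) :
    connectedComponentIn (f ⁻¹' {y}) (g y) ⊆ interior (MoreMor.sectionComponents f g) := by
  intro x hx
  obtain ⟨W, U', fU, gU, y', x', hW, hsec, hfU, hqc, rfl, rfl, hx', hcc, hsub⟩ := exists_restriction f g hg y hx
  haveI := hqc
  haveI : LocallyOfFiniteType fU := by
    haveI : LocallyOfFiniteType (fU ≫ W.ι) := by rw [hfU]; infer_instance
    exact locallyOfFiniteType_of_comp fU W.ι
  have hgen : ∀ v, v ⤳ x' → v ∈ MoreMor.sectionComponents fU gU := fun v hv =>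
    mem_sectionComponents_of_specializes gU hsec y' (fun z hz => dvrHyp_openImmersion U'.ι W.ι fU hfU z
      (H _ (hcc z hz))) hx' hv
  haveI : IsLocallyNoetherian U'.toScheme := LocallyOfFiniteType.isLocallyNoetherian fU
  have hcons := GISpreadLib.isLocallyConstructible_sectionComponents fU gU hsec
  have hint := (Groth.Agent.ProConsLib.mem_interior_iff_forall_specializes
    (Groth.Agent.ProConsLib.isLocallyConstructible_iff_ind_and_pro.mp hcons).1 x').mpr hgen
  exact mem_interior.mpr ⟨U'.ι.base '' interior (MoreMor.sectionComponents fU gU),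
    (Set.image_mono interior_subset).trans hsub, U'.ι.isOpenEmbedding.isOpenMap _ isOpen_interior, x', hint, rfl⟩

end SecNhdLib
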