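import Mathlib
import Groth.Agent.SecNhdLib.Nhd
import Groth.Agent.SecNhdLib.Descent
import Groth.Agent.SecNhdLib.FlatModel
import Groth.Agent.EquidimLib.GeomReduced

/-!
# Section components of flat morphisms of finite presentation
-/

set_option autoImplicit false
universe u

open CategoryTheory CategoryTheory.Limits AlgebraicGeometry TopologicalSpace Topology IsLocalRing

namespace SecNhdLib

theorem isGeomReducedAt_of_baseChange {X X₀ Y Y₀ : Scheme.{u}} {f : X ⟶ Y} {f₀ : X₀ ⟶ Y₀} {p : X ⟶ X₀}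
    {q : Y ⟶ Y₀} (sq : IsPullback p f f₀ q) (x : X)
    (h : FBase.IsGeomReducedAt (f.fiberToSpecResidueField (f x)) (f.asFiber x)) :
    FBase.IsGeomReducedAt (f₀.fiberToSpecResidueField (f₀ (p x))) (f₀.asFiber (p x)) := by
  let π : f.fiber (f x) ⟶ f₀.fiber (q (f x)) :=
    pullback.map _ _ _ _ p (Spec.map (q.residueFieldMap (f x))) q sq.w.symm (by simp)
  have hsq : IsPullback π (f.fiberToSpecResidueField (f x)) (f₀.fiberToSpecResidueField (q (f x)))
      (Spec.map (q.residueFieldMap (f x))) := isPullback_fiberToSpecResidueField_of_isPullback sq (f x)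
  have h1 := isGeomReducedAt_descend (φ := q.residueFieldMap (f x)) hsq (f.asFiber x) h
  have key : ∀ (y : Y₀), y = f₀ (p x) → ∀ a : ↥(f₀.fiber y), f₀.fiberι y a = p x →
      FBase.IsGeomReducedAt (f₀.fiberToSpecResidueField y) a →
      FBase.IsGeomReducedAt (f₀.fiberToSpecResidueField (f₀ (p x))) (f₀.asFiber (p x)) := by
    rintro _ rfl a ha hh
    obtain rfl : a = f₀.asFiber (p x) :=
      (f₀.fiberι (f₀ (p x))).isEmbedding.injective (by rw [ha, f₀.fiberι_asFiber])
    exact hh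
  refine key _ ?_ (π (f.asFiber x)) ?_ h1
  · rw [← Scheme.Hom.comp_apply, ← sq.w, Scheme.Hom.comp_apply]
  · rw [← Scheme.Hom.comp_apply, show π ≫ f₀.fiberι (q (f x)) = f.fiberι (f x) ≫ p from pullback.lift_fst _ _ _,
      Scheme.Hom.comp_apply, f.fiberι_asFiber]

variable {X Y : Scheme.{u}} (f : X ⟶ Y) [Flat f] [LocallyOfFinitePresentation f] [QuasiCompact f] [QuasiSeparated f]

theorem connectedComponentIn_subset_interior_affine [IsAffine Y] (g : Y ⟶ X) (hg : g ≫ f = 𝟙 Y) (y : Y)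
    (H : ∀ z ∈ connectedComponentIn (f ⁻¹' {y}) (g y),
      FBase.IsGeomReducedAt (f.fiberToSpecResidueField (f z)) (f.asFiber z)) :
    connectedComponentIn (f ⁻¹' {y}) (g y) ⊆ interior (MoreMor.sectionComponents f g) := by
  obtain ⟨X₀, S₀, f₀, q, p, _, _, _, _, _, sq⟩ := exists_flat_noetherian_model f
  let f₁ : pullback f₀ f₀ ⟶ X₀ := pullback.snd f₀ f₀
  let g₁ : X₀ ⟶ pullback f₀ f₀ := pullback.diagonal f₀
  have hg₁ : g₁ ≫ f₁ = 𝟙 _ := pullback.lift_snd _ _ _
  haveI : IsLocallyNoetherian X₀ := LocallyOfFiniteType.isLocallyNoetherian f₀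
  haveI : LocallyOfFiniteType f₁ := MorphismProperty.pullback_snd _ _ inferInstance
  haveI : Flat f₁ := MorphismProperty.pullback_snd _ _ inferInstance
  let q₁ : Y ⟶ X₀ := g ≫ p
  have hq₁ : q₁ ≫ f₀ = q := by
    rw [Category.assoc, sq.w, reassoc_of% hg]
  let p₁ : X ⟶ pullback f₀ f₀ := pullback.lift p (f ≫ q₁) (by rw [Category.assoc, hq₁]; exact sq.w)
  have sq₁ : IsPullback p₁ f f₁ q₁ := by
    refine IsPullback.of_right ?_ (pullback.lift_snd _ _ _) (IsPullback.of_hasPullback f₀ f₀)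
    rw [pullback.lift_fst, hq₁]
    exact sq
  have hgp : g ≫ p₁ = q₁ ≫ g₁ := by
    apply pullback.hom_ext
    · rw [Category.assoc, Category.assoc, pullback.lift_fst, pullback.diagonal_fst, Category.comp_id]
    · rw [Category.assoc, Category.assoc, pullback.lift_snd, pullback.diagonal_snd, Category.comp_id,
        reassoc_of% hg]
  have hSC := Groth.Agent.S1324.result f₁ g₁ hg₁ f p₁ q₁ sq₁ g hg hgp
  have hmem : ∀ z, z ∈ connectedComponentIn (f ⁻¹' {y}) (g y) ↔ f z = y ∧ p₁ z ∈ MoreMor.sectionComponents f₁ g₁ :=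
    fun z => by
    constructor
    · intro hz
      have hzy : f z = y := (connectedComponentIn_subset _ _ hz :)
      refine ⟨hzy, ?_⟩
      have : z ∈ MoreMor.sectionComponents f g := by
        show z ∈ connectedComponentIn (f ⁻¹' {f z}) (g (f z))
        rw [hzy]; exact hz
      rwa [hSC] at this
    · rintro ⟨hzy, hz⟩
      have : z ∈ MoreMor.sectionComponents f g := by rw [hSC]; exact hz
      have h2 : z ∈ connectedComponentIn (f ⁻¹' {f z}) (g (f z)) := this
      rwa [hzy] at h2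
  intro x hx
  have hf₁ : ∀ z, f₁ (p₁ z) = q₁ (f z) := fun z => by
    rw [← Scheme.Hom.comp_apply, sq₁.w, Scheme.Hom.comp_apply]
  have H₁ : ∀ a ∈ connectedComponentIn (f₁ ⁻¹' {q₁ y}) (g₁ (q₁ y)), DvrHyp f₁ a := fun a ha => by
    have hay : f₁ a = q₁ y := (connectedComponentIn_subset _ _ ha :)
    obtain ⟨z, hz₁, hz₂⟩ := UOpenLib.image_fst_snd sq₁ a y hay
    have hz : z ∈ connectedComponentIn (f ⁻¹' {y}) (g y) := (hmem z).mpr ⟨hz₂, by
      rw [hz₁]
      show a ∈ connectedComponentIn (f₁ ⁻¹' {f₁ a}) (g₁ (f₁ a))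
      rw [hay]; exact ha⟩
    exact hz₁ ▸ dvrHyp_of_flat (isGeomReducedAt_of_baseChange sq₁ z (H z hz))
  have hx₁ : p₁ x ∈ connectedComponentIn (f₁ ⁻¹' {q₁ y}) (g₁ (q₁ y)) := by
    obtain ⟨hxy, h⟩ := (hmem x).mp hx
    have h2 : p₁ x ∈ connectedComponentIn (f₁ ⁻¹' {f₁ (p₁ x)}) (g₁ (f₁ (p₁ x))) := h
    rwa [hf₁, hxy] at h2
  have hint := connectedComponentIn_subset_interior f₁ g₁ hg₁ (q₁ y) H₁ hx₁
  rw [hSC]
  exact preimage_interior_subset_interior_preimage p₁.continuous hint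

theorem connectedComponentIn_subset_interior_fp (g : Y ⟶ X) (hg : g ≫ f = 𝟙 Y) (y : Y)
    (H : ∀ z ∈ connectedComponentIn (f ⁻¹' {y}) (g y),
      FBase.IsGeomReducedAt (f.fiberToSpecResidueField (f z)) (f.asFiber z)) :
    connectedComponentIn (f ⁻¹' {y}) (g y) ⊆ interior (MoreMor.sectionComponents f g) := by
  obtain ⟨U, hU, hyU⟩ := GISpreadLib.exists_affine_mem y
  haveI : IsAffine U.toScheme := hU
  let f' := pullback.snd f U.ι
  let g' : U.toScheme ⟶ pullback f U.ι :=
    pullback.lift (U.ι ≫ g) (𝟙 _) (by rw [Category.assoc, hg, Category.comp_id, Category.id_comp])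
  have hg' : g' ≫ f' = 𝟙 _ := pullback.lift_snd _ _ _
  let p := pullback.fst f U.ι
  have sq := IsPullback.of_hasPullback f U.ι
  have hSC := Groth.Agent.S1324.result f g hg f' p U.ι sq g' hg' (pullback.lift_fst _ _ _)
  haveI : Flat f' := MorphismProperty.pullback_snd _ _ inferInstance
  haveI : LocallyOfFinitePresentation f' := MorphismProperty.pullback_snd _ _ inferInstance
  haveI : QuasiCompact f' := MorphismProperty.pullback_snd _ _ inferInstance
  haveI : QuasiSeparated f' := MorphismProperty.pullback_snd _ _ inferInstance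
  intro x hx
  have hxy : f x = y := (connectedComponentIn_subset _ _ hx :)
  obtain ⟨x', hx'₁, hx'₂⟩ := UOpenLib.image_fst_snd sq x ⟨y, hyU⟩ hxy
  have hfp : ∀ v, f (p v) = U.ι (f' v) := fun v => by
    rw [← Scheme.Hom.comp_apply, sq.w, Scheme.Hom.comp_apply]
  have hcc : ∀ v, f' v = ⟨y, hyU⟩ →
      (v ∈ connectedComponentIn (f' ⁻¹' {⟨y, hyU⟩}) (g' ⟨y, hyU⟩) ↔ p v ∈ connectedComponentIn (f ⁻¹' {y}) (g y)) :=
    fun v hv => by
    have h1 := Set.ext_iff.mp hSC v
    simp only [MoreMor.sectionComponents, Set.mem_setOf_eq, Set.mem_preimage, hfp, hv] at h1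
    exact h1
  have hint := connectedComponentIn_subset_interior_affine f' g' hg' ⟨y, hyU⟩ (fun v hv =>
    have hv' : f' v = ⟨y, hyU⟩ := (connectedComponentIn_subset _ _ hv :)
    EquidimLib.isGeomReducedAt_baseChange f (p v) (H (p v) ((hcc v hv').mp hv)) sq v rfl)
    ((hcc x' hx'₂).mpr (hx'₁ ▸ hx))
  rw [hSC] at hint
  rw [← hx'₁]
  exact mem_interior.mpr ⟨p '' interior (p ⁻¹' MoreMor.sectionComponents f g),
    (Set.image_mono interior_subset).trans (Set.image_preimage_subset _ _),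
    p.isOpenEmbedding.isOpenMap _ isOpen_interior, x', hint, rfl⟩

end SecNhdLib
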