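import Mathlib
import Groth.Agent.SecNhdLib.FlatNhd
import Groth.Agent.AlgSpLib.ReducedSmooth

/-!
# Openness of the section components of smooth morphisms
-/

set_option autoImplicit false
universe u

open CategoryTheory CategoryTheory.Limits AlgebraicGeometry TopologicalSpace Topology IsLocalRing

namespace SecNhdLib

theorem isGeomReducedAt_of_smooth {X Y : Scheme.{u}} (f : X ⟶ Y) [Smooth f] (x : X) :
    FBase.IsGeomReducedAt (f.fiberToSpecResidueField (f x)) (f.asFiber x) := by
  intro K _ _ x' _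
  have h1 : Smooth (f.fiberToSpecResidueField (f x)) := MorphismProperty.pullback_snd _ _ inferInstance
  haveI : Smooth (FBase.bcStr (f.fiberToSpecResidueField (f x)) K) := MorphismProperty.pullback_snd _ _ h1
  haveI : AlgebraicGeometry.IsReduced (FBase.bc (f.fiberToSpecResidueField (f x)) K) :=
    AlgSpLib.isReduced_of_smooth (FBase.bcStr (f.fiberToSpecResidueField (f x)) K)
  exact inferInstance

theorem isOpen_sectionComponents_of_smooth {X Y : Scheme.{u}} (f : X ⟶ Y) [Smooth f]
    [QuasiSeparated f]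
    (g : Y ⟶ X) (hg : g ≫ f = 𝟙 Y) : IsOpen (MoreMor.sectionComponents f g) := by
  refine isOpen_iff_mem_nhds.mpr fun x hx => mem_interior_iff_mem_nhds.mp ?_
  obtain ⟨W, U', fU, gU, y', x', hW, hsec, hfU, hqc, -, rfl, hx', hcc, hsub⟩ := exists_restriction f g hg (f x) hx
  haveI := hqc
  haveI : Smooth fU := by
    haveI : Smooth (fU ≫ W.ι) := by rw [hfU]; infer_instance
    exact MorphismProperty.of_postcomp @Smooth fU W.ι (inferInstance : IsOpenImmersion W.ι) ‹_›
  haveI : QuasiSeparated fU := by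
    haveI : QuasiSeparated (fU ≫ W.ι) := by rw [hfU]; infer_instance
    exact QuasiSeparated.of_comp fU W.ι
  have hint := connectedComponentIn_subset_interior_fp fU gU hsec y' (fun z _ => isGeomReducedAt_of_smooth fU z) hx'
  exact mem_interior.mpr ⟨U'.ι.base '' interior (MoreMor.sectionComponents fU gU),
    (Set.image_mono interior_subset).trans hsub, U'.ι.isOpenEmbedding.isOpenMap _ isOpen_interior, x', hint, rfl⟩

/-- Fibre components through a point of a base change surject onto those downstairs. -/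
theorem image_connectedComponentIn_baseChange {X Y X' Y' : Scheme.{u}} {f : X ⟶ Y} {f' : X' ⟶ Y'} {p : X' ⟶ X}
    {g : Y' ⟶ Y} (hc : IsPullback p f' f g) (a : X') :
    p '' connectedComponentIn (f' ⁻¹' {f' a}) a = connectedComponentIn (f ⁻¹' {f (p a)}) (p a) := by
  have hfp : ∀ v, f (p v) = g (f' v) := fun v => by rw [← Scheme.Hom.comp_apply, hc.w, Scheme.Hom.comp_apply]
  refine Set.Subset.antisymm ((isPreconnected_connectedComponentIn.image p p.continuous.continuousOn).subset_connectedComponentIn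
    ⟨a, mem_connectedComponentIn rfl, rfl⟩ ?_) fun c hcm => ?_
  · rintro _ ⟨v, hv, rfl⟩
    have hv' : f' v = f' a := (connectedComponentIn_subset _ _ hv :)
    show f (p v) = f (p a)
    rw [hfp, hfp, hv']
  · rw [hfp] at hcm
    let y' := f' a
    let := (g.residueFieldMap y').hom.toAlgebra
    let f₀ : f.fiber (g y') ⟶ Spec (CommRingCat.of (Y.residueField (g y'))) := f.fiberToSpecResidueField (g y')
    let hP := isPullback_fiberToSpecResidueField_of_isPullback hc y'
    let e : f'.fiber y' ≅ ConnBC.BC f₀ (Y'.residueField y') := hP.isoPullback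
    have he : e.hom ≫ ConnBC.pr f₀ (Y'.residueField y') ≫ f.fiberι (g y') = f'.fiberι y' ≫ p := by
      rw [← Category.assoc, show e.hom ≫ ConnBC.pr f₀ (Y'.residueField y') = _ from hP.isoPullback_hom_fst]
      exact pullback.lift_fst _ _ _
    obtain ⟨a₀, ha₀⟩ : a ∈ Set.range (f'.fiberι y') := (f'.range_fiberι y').ge rfl
    have hb : f.fiberι (g y') (ConnBC.pr f₀ (Y'.residueField y') (e.hom a₀)) = p a :=
      (congr($he a₀)).trans (congrArg p ha₀)
    have h1 : connectedComponentIn (f ⁻¹' {g y'}) (p a) =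
        f.fiberι (g y') '' connectedComponent (ConnBC.pr f₀ (Y'.residueField y') (e.hom a₀)) := by
      have h2 : f ⁻¹' {g y'} = f.fiberι (g y') '' Set.univ := by rw [Set.image_univ]; exact (f.range_fiberι _).symm
      rw [h2, ← hb, ← image_connectedComponentIn (f.fiberι (g y')).isEmbedding (Set.mem_univ _), connectedComponentIn_univ]
    rw [h1, ← ConnBC.image_connectedComponent f₀ (Y'.residueField y') (e.hom a₀)] at hcm
    obtain ⟨_, ⟨d, hd, rfl⟩, rfl⟩ := hcm
    refine ⟨f'.fiberι y' (e.inv d), ?_, ?_⟩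
    · have h2 : f' ⁻¹' {y'} = f'.fiberι y' '' Set.univ := by rw [Set.image_univ]; exact (f'.range_fiberι _).symm
      show _ ∈ connectedComponentIn (f' ⁻¹' {y'}) a
      rw [h2, ← ha₀, ← image_connectedComponentIn (f'.fiberι y').isEmbedding (Set.mem_univ _), connectedComponentIn_univ]
      refine ⟨_, ?_, rfl⟩
      have h3 := e.inv.continuous.image_connectedComponent_subset (e.hom a₀) ⟨d, hd, rfl⟩
      rwa [show e.inv (e.hom a₀) = a₀ from congr($(e.hom_inv_id) a₀)] at h3
    · refine ((congr($he (e.inv d))).symm).trans (congrArg (fun w => f.fiberι (g y') (ConnBC.pr f₀ (Y'.residueField y') w)) ?_)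
      exact congr($(e.inv_hom_id) d)

theorem exists_open_components_meeting {S S' X : Scheme.{u}} (f : X ⟶ S) [Smooth f] [QuasiSeparated f]
    (g : S' ⟶ S) [UniversallyOpen g] (e : S' ⟶ X) (he : e ≫ f = g) :
    ∃ U : X.Opens, ∀ s : S, (U : Set X) ∩ f ⁻¹' {s} =
      ⋃ x ∈ Set.range e ∩ f ⁻¹' {s}, connectedComponentIn (f ⁻¹' {s}) x := by
  let f' := pullback.snd f g
  let p := pullback.fst f g
  let σ : S' ⟶ pullback f g := pullback.lift e (𝟙 _) (by rw [he, Category.id_comp])
  have hσ : σ ≫ f' = 𝟙 _ := pullback.lift_snd _ _ _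
  haveI : Smooth f' := MorphismProperty.pullback_snd _ _ inferInstance
  haveI : QuasiSeparated f' := MorphismProperty.pullback_snd _ _ inferInstance
  haveI : UniversallyOpen p := MorphismProperty.pullback_fst _ _ inferInstance
  refine ⟨⟨p '' MoreMor.sectionComponents f' σ, p.isOpenMap _ (isOpen_sectionComponents_of_smooth f' σ hσ)⟩, fun s => ?_⟩
  have hb : ∀ v, f' (σ v) = v := fun v => by rw [← Scheme.Hom.comp_apply, hσ]; rfl
  have hpσ : ∀ v, p (σ v) = e v := fun v => by
    rw [← Scheme.Hom.comp_apply, show σ ≫ p = e from pullback.lift_fst _ _ _]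
  have hfe : ∀ v, f (e v) = g v := fun v => by rw [← Scheme.Hom.comp_apply, he]
  ext x
  simp only [Set.mem_inter_iff, Set.mem_iUnion, exists_prop, Opens.coe_mk]
  constructor
  · rintro ⟨⟨z, hz, rfl⟩, hx⟩
    have hz' : z ∈ connectedComponentIn (f' ⁻¹' {f' z}) (σ (f' z)) := hz
    have hgs : g (f' z) = s := by
      rw [← Scheme.Hom.comp_apply, ← pullback.condition, Scheme.Hom.comp_apply]; exact hx
    refine ⟨e (f' z), ⟨⟨_, rfl⟩, (hfe _).trans hgs⟩, ?_⟩
    have h1 := (image_connectedComponentIn_baseChange (IsPullback.of_hasPullback f g) (σ (f' z))).le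
      ⟨z, by rw [show pullback.snd f g (σ (f' z)) = f' z from hb _]; exact hz', rfl⟩
    change p z ∈ connectedComponentIn (f ⁻¹' {f (p (σ (f' z)))}) (p (σ (f' z))) at h1
    rw [hpσ, hfe, hgs] at h1
    exact h1
  · rintro ⟨_, ⟨⟨v, rfl⟩, hv⟩, hx⟩
    refine ⟨?_, (connectedComponentIn_subset _ _ hx :)⟩
    have hx' : x ∈ connectedComponentIn (f ⁻¹' {f (p (σ v))}) (p (σ v)) := by
      rw [hpσ]; rwa [show f (e v) = s from hv]
    obtain ⟨z, hz, rfl⟩ := (image_connectedComponentIn_baseChange (IsPullback.of_hasPullback f g) (σ v)).ge hx'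
    change z ∈ connectedComponentIn (f' ⁻¹' {f' (σ v)}) (σ v) at hz
    rw [hb] at hz
    refine ⟨z, ?_, rfl⟩
    show z ∈ connectedComponentIn (f' ⁻¹' {f' z}) (σ (f' z))
    rw [show f' z = v from (connectedComponentIn_subset _ _ hz :)]
    exact hz

end SecNhdLib
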