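import Mathlib
import Groth.Prelude.Def_EGA43
import Groth.Prelude.Def_MoreMor
import Groth.Agent.ConsLib.PairApps
import Groth.Agent.ConsLib.General
import Groth.Agent.GISpreadLib.Cons
import Groth.Agent.SecCompLib.Univ
import Groth.Agent.DvrProperLib.Components

/-!
# Properness of section components near a point with a proper component
-/

set_option autoImplicit false
universe u

open CategoryTheory CategoryTheory.Limits AlgebraicGeometry TopologicalSpace Topology IsLocalRing RichLib.LimBC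

namespace SecNhdLib

/-- A separated Noetherian model over an affine base. -/
theorem exists_separated_model {X S : Scheme.{u}} [IsAffine S] (f : X ⟶ S) [IsSeparated f]
    [LocallyOfFinitePresentation f] [QuasiCompact f] :
    ∃ (X₀ S₀ : Scheme.{u}) (f₀ : X₀ ⟶ S₀) (p : X ⟶ X₀) (q : S ⟶ S₀), IsNoetherian S₀ ∧ IsSeparated f₀ ∧
      LocallyOfFiniteType f₀ ∧ QuasiCompact f₀ ∧ IsPullback p f f₀ q := by
  let A := ConsLib.zSys (Γ(S, ⊤) : Type u)
  haveI : ∀ i j (a : i ⟶ j), IsAffineHom (A.D.map a) := fun _ _ a => A.affine_map a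
  haveI : ∀ i, IsNoetherian (A.D.obj i) := fun i => ConsLib.zSys_obj _ i
  let e : S ≅ A.c.pt := S.isoSpec ≪≫ (ConsLib.zSysIso _).symm
  obtain ⟨i, ⟨M⟩⟩ := DescFP.exists_model A.hc (f ≫ e.hom)
  haveI := M.lfp
  haveI := M.qc
  haveI := M.qs
  let B := ofStage A.D A.c A.hc i
  have hlim : AtLim B M.p @IsSeparated := by
    show IsSeparated (pullback.snd M.p (A.c.π.app i))
    rw [← MorphismProperty.cancel_left_of_respectsIso @IsSeparated M.sq.isoPullback.hom,
      M.sq.isoPullback_hom_snd]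
    infer_instance
  obtain ⟨φ, hφ⟩ := exists_at_isSeparated B M.p hlim
  have hw : M.g ≫ M.p = ((f ≫ e.hom) ≫ A.c.π.app φ.left) ≫ A.D.map φ.hom := by
    rw [M.sq.w, Category.assoc (f ≫ e.hom), A.c.w]
  let p : X ⟶ pullback M.p (A.D.map φ.hom) := pullback.lift M.g ((f ≫ e.hom) ≫ A.c.π.app φ.left) hw
  refine ⟨_, _, pullback.snd M.p (A.D.map φ.hom), p, e.hom ≫ A.c.π.app φ.left, inferInstance, hφ,
    MorphismProperty.pullback_snd _ _ inferInstance, MorphismProperty.pullback_snd _ _ inferInstance, ?_⟩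
  refine IsPullback.of_right ?_ ((pullback.lift_snd _ _ _).trans (Category.assoc _ _ _))
    (IsPullback.of_hasPullback M.p (A.D.map φ.hom))
  rw [pullback.lift_fst, Category.assoc, A.c.w]
  exact M.sq.of_iso (Iso.refl _) (Iso.refl _) e.symm (Iso.refl _) (by simp) (by simp) (by simp) (by simp)

/-- A separated Noetherian model of a morphism with a section. -/
theorem exists_separated_model_section {X Y : Scheme.{u}} [IsAffine Y] (f : X ⟶ Y) [IsSeparated f]
    [LocallyOfFinitePresentation f] [QuasiCompact f] (g : Y ⟶ X) (hg : g ≫ f = 𝟙 Y) :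
    ∃ (X₁ Y₁ : Scheme.{u}) (f₁ : X₁ ⟶ Y₁) (g₁ : Y₁ ⟶ X₁) (p : X ⟶ X₁) (q : Y ⟶ Y₁),
      IsNoetherian Y₁ ∧ IsSeparated f₁ ∧ LocallyOfFiniteType f₁ ∧ QuasiCompact f₁ ∧ g₁ ≫ f₁ = 𝟙 Y₁ ∧
        IsPullback p f f₁ q ∧ g ≫ p = q ≫ g₁ := by
  obtain ⟨X₀, S₀, f₀, p₀, q₀, _, _, _, _, sq⟩ := exists_separated_model f
  haveI : IsLocallyNoetherian X₀ := LocallyOfFiniteType.isLocallyNoetherian f₀
  haveI : CompactSpace X₀ := QuasiCompact.compactSpace_of_compactSpace f₀
  have hq₁ : (g ≫ p₀) ≫ f₀ = q₀ := by rw [Category.assoc, sq.w, reassoc_of% hg]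
  refine ⟨pullback f₀ f₀, X₀, pullback.snd f₀ f₀, pullback.diagonal f₀,
    pullback.lift p₀ (f ≫ g ≫ p₀) (by rw [Category.assoc, hq₁]; exact sq.w), g ≫ p₀, {},
    MorphismProperty.pullback_snd _ _ inferInstance,
    MorphismProperty.pullback_snd _ _ inferInstance, MorphismProperty.pullback_snd _ _ inferInstance,
    pullback.lift_snd _ _ _, ?_, ?_⟩
  · refine IsPullback.of_right ?_ (pullback.lift_snd _ _ _) (IsPullback.of_hasPullback f₀ f₀)
    rw [pullback.lift_fst, hq₁]
    exact sq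
  · apply pullback.hom_ext
    · refine (Category.assoc _ _ _).trans ((congrArg (g ≫ ·) (pullback.lift_fst _ _ _)).trans ?_)
      simp
    · refine (Category.assoc _ _ _).trans ((congrArg (g ≫ ·) (pullback.lift_snd _ _ _)).trans ?_)
      simp [reassoc_of% hg]

open SecCompLib

variable {X Y : Scheme.{u}} {f : X ⟶ Y} {g : Y ⟶ X}

theorem mem_sectionComponents_section (hg : g ≫ f = 𝟙 Y) (y : Y) : g y ∈ MoreMor.sectionComponents f g := by
  show g y ∈ connectedComponentIn (f ⁻¹' {f (g y)}) (g (f (g y)))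
  rw [show f (g y) = y from apply_section hg y]
  exact mem_connectedComponentIn (apply_section hg y)

theorem sectionComponents_inter_fibre (y : Y) :
    MoreMor.sectionComponents f g ∩ f.base ⁻¹' {y} = comp f g y :=
  Set.ext fun x => ((mem_comp_iff y x).trans Iff.rfl).symm

/-- Components through a rational point are geometrically connected. -/
theorem isPreconnected_comp_bc (hg : g ≫ f = 𝟙 Y) (y : Y) (K : Type u) [Field K]
    [Algebra (IsLocalRing.ResidueField (Y.presheaf.stalk y)) K] :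
    _root_.IsPreconnected
      ((FBase.bcπ (f.fiberToSpecResidueField y) K ≫ f.fiberι y).base ⁻¹' MoreMor.sectionComponents f g) := by
  letI : Algebra (Y.residueField y) K := ‹Algebra (IsLocalRing.ResidueField (Y.presheaf.stalk y)) K›
  let h : Spec (CommRingCat.of K) ⟶ Y :=
    Spec.map (CommRingCat.ofHom (algebraMap (Y.residueField y) K)) ≫ Y.fromSpecResidueField y
  have sq : IsPullback (FBase.bcπ (f.fiberToSpecResidueField y) K ≫ f.fiberι y)
      (FBase.bcStr (f.fiberToSpecResidueField y) K) f h :=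
    (IsPullback.of_hasPullback (f.fiberToSpecResidueField y)
      (Spec.map (CommRingCat.ofHom (algebraMap (Y.residueField y) K)))).paste_horiz
      (IsPullback.of_hasPullback f (Y.fromSpecResidueField y))
  let σ := sq.lift (h ≫ g) (𝟙 _) (by rw [Category.assoc, hg, Category.comp_id, Category.id_comp])
  have hσ : σ ≫ FBase.bcStr (f.fiberToSpecResidueField y) K = 𝟙 _ := sq.lift_snd _ _ _
  have hSC := Groth.Agent.S1324.result f g hg _ _ h sq σ hσ (sq.lift_fst _ _ _)
  rw [← hSC]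
  let t : Spec (CommRingCat.of K) := closedPoint K
  have hall : ∀ z, (FBase.bcStr (f.fiberToSpecResidueField y) K).base z = t := fun z =>
    Subsingleton.elim (α := PrimeSpectrum K) _ _
  have e : MoreMor.sectionComponents (FBase.bcStr (f.fiberToSpecResidueField y) K) σ =
      comp (FBase.bcStr (f.fiberToSpecResidueField y) K) σ t := by
    rw [← sectionComponents_inter_fibre t]
    exact (Set.inter_eq_left.mpr fun z _ => hall z).symm
  rw [e]
  exact isPreconnected_connectedComponentIn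

/-- The component is open in the fibre. -/
theorem isOpen_comp_fiber [LocallyOfFiniteType f] (hg : g ≫ f = 𝟙 Y) (y : Y) :
    IsOpen ((f.fiberι y).base ⁻¹' MoreMor.sectionComponents f g) := by
  let a := f.fiberι y
  let b := f.fiberToSpecResidueField y
  have sq : IsPullback a b f (Y.fromSpecResidueField y) := IsPullback.of_hasPullback f _
  let σ := sq.lift (Y.fromSpecResidueField y ≫ g) (𝟙 _) (by rw [Category.assoc, hg, Category.comp_id, Category.id_comp])
  have hσ : σ ≫ b = 𝟙 _ := sq.lift_snd _ _ _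
  rw [← Groth.Agent.S1324.result f g hg b a _ sq σ hσ (sq.lift_fst _ _ _)]
  let t : Spec (Y.residueField y) := closedPoint (Y.residueField y)
  have hall : ∀ z, b z = t := fun z => Subsingleton.elim (α := PrimeSpectrum (Y.residueField y)) _ _
  haveI : LocallyOfFiniteType b := MorphismProperty.pullback_snd _ _ ‹LocallyOfFiniteType f›
  haveI : IsLocallyNoetherian (f.fiber y) := LocallyOfFiniteType.isLocallyNoetherian b
  haveI : LocallyConnectedSpace (f.fiber y) := Groth.Agent.S2277.result _ fun z => by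
    obtain ⟨W, hW, hzW⟩ := GISpreadLib.exists_affine_mem z
    haveI : IsNoetherianRing Γ(f.fiber y, W) := IsLocallyNoetherian.component_noetherian ⟨W, hW⟩
    exact ⟨W, W.isOpen.mem_nhds hzW, noetherianSpace_of_isAffineOpen W hW⟩
  have e : MoreMor.sectionComponents b σ = connectedComponentIn Set.univ (σ t) := by
    rw [← (show b.base ⁻¹' {t} = Set.univ from Set.eq_univ_of_forall hall)]
    show _ = comp b σ t
    rw [← sectionComponents_inter_fibre t]
    exact (Set.inter_eq_left.mpr fun z _ => hall z).symm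
  rw [e]
  exact isOpen_univ.connectedComponentIn

/-- Properness of the component descends along a base change. -/
theorem isProper_comp_descend {X₁ Y₁ : Scheme.{u}} {f₁ : X₁ ⟶ Y₁} [IsSeparated f₁] [LocallyOfFiniteType f₁]
    {g₁ : Y₁ ⟶ X₁} {p : X ⟶ X₁} {q : Y ⟶ Y₁} (sq : IsPullback p f f₁ q) (y : Y)
    (hSC : MoreMor.sectionComponents f g = p ⁻¹' MoreMor.sectionComponents f₁ g₁)
    (O : (f.fiber y).Opens) (hO : (O : Set (f.fiber y)) = (f.fiberι y).base ⁻¹' comp f g y)
    (hprop : IsProper (O.ι ≫ f.fiberToSpecResidueField y)) (O₁ : (f₁.fiber (q y)).Opens)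
    (hO₁ : (O₁ : Set (f₁.fiber (q y))) = (f₁.fiberι (q y)).base ⁻¹' MoreMor.sectionComponents f₁ g₁) :
    IsProper (O₁.ι ≫ f₁.fiberToSpecResidueField (q y)) := by
  let b := f.fiberToSpecResidueField y
  let b₁ := f₁.fiberToSpecResidueField (q y)
  let m : f.fiber y ⟶ f₁.fiber (q y) :=
    pullback.map _ _ _ _ p (Spec.map (q.residueFieldMap y)) q sq.w.symm (by simp)
  have hm : m ≫ f₁.fiberι (q y) = f.fiberι y ≫ p := pullback.lift_fst _ _ _
  have hsq : IsPullback m b b₁ (Spec.map (q.residueFieldMap y)) :=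
    isPullback_fiberToSpecResidueField_of_isPullback sq y
  have hOm : O = m ⁻¹ᵁ O₁ := by
    refine Opens.ext ?_
    rw [hO, Opens.map_coe, hO₁, ← sectionComponents_inter_fibre, hSC]
    ext z
    have h1 : (f₁.fiberι (q y)) (m z) = p ((f.fiberι y) z) := by
      rw [← Scheme.Hom.comp_apply, hm, Scheme.Hom.comp_apply]
    show (p ((f.fiberι y) z) ∈ MoreMor.sectionComponents f₁ g₁ ∧ f ((f.fiberι y) z) = y) ↔
      (f₁.fiberι (q y)) (m z) ∈ MoreMor.sectionComponents f₁ g₁
    rw [h1]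
    exact and_iff_left ((f.range_fiberι y).le ⟨z, rfl⟩)
  subst hOm
  have big : IsPullback (m ∣_ O₁) ((m ⁻¹ᵁ O₁).ι ≫ b) (O₁.ι ≫ b₁) (Spec.map (q.residueFieldMap y)) :=
    (isPullback_morphismRestrict m O₁).paste_vert hsq
  haveI : IsSeparated b₁ := MorphismProperty.pullback_snd _ _ ‹IsSeparated f₁›
  haveI : LocallyOfFiniteType b₁ := MorphismProperty.pullback_snd _ _ ‹LocallyOfFiniteType f₁›
  haveI : UniversallyClosed (O₁.ι ≫ b₁) := by
    refine MorphismProperty.of_isPullback_of_descendsAlong (P := @UniversallyClosed)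
      (Q := @Surjective ⊓ @Flat ⊓ @QuasiCompact) big.flip ⟨⟨⟨fun z => ?_⟩, ?_⟩, inferInstance⟩ ?_
    · exact ⟨closedPoint (Y.residueField y), Subsingleton.elim (α := PrimeSpectrum (Y₁.residueField (q y))) _ _⟩
    · refine HasRingHomProperty.Spec_iff.mpr ?_
      letI := (q.residueFieldMap y).hom.toAlgebra
      exact RingHom.flat_algebraMap_iff.mpr inferInstance
    · exact (inferInstance : UniversallyClosed ((m ⁻¹ᵁ O₁).ι ≫ b))
  exact {}

/-- A proper closed subscheme makes the reduced one proper. -/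
theorem isProper_vanishingIdeal {P T C : Scheme.{u}} (b : P ⟶ T) (i : C ⟶ P) [IsClosedImmersion i]
    (h : IsProper (i ≫ b)) (Z : Closeds P) (hZ : Set.range i.base = (Z : Set P)) :
    IsProper ((Scheme.IdealSheafData.vanishingIdeal Z).subschemeι ≫ b) := by
  let J := Scheme.IdealSheafData.vanishingIdeal Z
  have hle : i.ker ≤ J.subschemeι.ker := by
    rw [Scheme.IdealSheafData.ker_subschemeι]
    refine Scheme.IdealSheafData.le_support_iff_le_vanishingIdeal.mp ?_
    intro z hz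
    show z ∈ (i.ker.support : Set P)
    rw [Scheme.Hom.support_ker]
    exact subset_closure (hZ.ge hz)
  let l : J.subscheme ⟶ C := IsClosedImmersion.lift i J.subschemeι hle
  have hl : l ≫ i = J.subschemeι := IsClosedImmersion.lift_fac _ _ _
  haveI : IsClosedImmersion (l ≫ i) := by rw [hl]; infer_instance
  haveI : IsClosedImmersion l := IsClosedImmersion.of_comp l i
  haveI := h
  rw [show (J.subschemeι ≫ b) = l ≫ i ≫ b by rw [← hl, Category.assoc]]
  infer_instance

/-- EGA IV 15.6.8: section components are proper near a point with proper component. -/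
theorem exists_proper_nhd {X Y : Scheme.{u}} (f : X ⟶ Y) [IsSeparated f] [LocallyOfFinitePresentation f]
    [QuasiCompact f] (g : Y ⟶ X) (hg : g ≫ f = 𝟙 Y) (y : Y)
    (hop : IsOpen ((f.fiberι y).base ⁻¹' comp f g y))
    (hprop : IsProper (Scheme.Opens.ι (⟨(f.fiberι y).base ⁻¹' comp f g y, hop⟩ : (f.fiber y).Opens) ≫
      f.fiberToSpecResidueField y)) :
    ∃ U : Y.Opens, y ∈ U ∧ ∃ hC : IsClosed ((f ⁻¹ᵁ U).ι.base ⁻¹' MoreMor.sectionComponents f g),
      IsProper ((Scheme.IdealSheafData.vanishingIdeal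
        (⟨(f ⁻¹ᵁ U).ι.base ⁻¹' MoreMor.sectionComponents f g, hC⟩ : TopologicalSpace.Closeds ↥(f ⁻¹ᵁ U))).subschemeι ≫
        (f ∣_ U)) := by
  obtain ⟨W, hW, hyW⟩ := GISpreadLib.exists_affine_mem y
  haveI : IsAffine W.toScheme := hW
  let j := pullback.fst f W.ι
  let f' := pullback.snd f W.ι
  have sq' : IsPullback j f' f W.ι := IsPullback.of_hasPullback f W.ι
  let g' : W.toScheme ⟶ pullback f W.ι :=
    pullback.lift (W.ι ≫ g) (𝟙 _) (by rw [Category.assoc, hg, Category.comp_id, Category.id_comp])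
  have hg' : g' ≫ f' = 𝟙 _ := pullback.lift_snd _ _ _
  haveI : IsSeparated f' := MorphismProperty.pullback_snd _ _ inferInstance
  haveI : LocallyOfFinitePresentation f' := MorphismProperty.pullback_snd _ _ inferInstance
  haveI : QuasiCompact f' := MorphismProperty.pullback_snd _ _ inferInstance
  obtain ⟨X₁, Y₁, f₁, g₁, p, q, _, _, _, _, hg₁, sq, hgp⟩ := exists_separated_model_section f' g' hg'
  let y' : W.toScheme := ⟨y, hyW⟩
  have hSC' := Groth.Agent.S1324.result f g hg f' j W.ι sq' g' hg' (pullback.lift_fst _ _ _)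
  have hSC₁ := Groth.Agent.S1324.result f₁ g₁ hg₁ f' p q sq g' hg' hgp
  let m' : f'.fiber y' ⟶ f.fiber (W.ι y') :=
    pullback.map _ _ _ _ j (Spec.map (W.ι.residueFieldMap y')) W.ι sq'.w.symm
      (W.ι.SpecMap_residueFieldMap_fromSpecResidueField y').symm
  have hsq' : IsPullback m' (f'.fiberToSpecResidueField y') (f.fiberToSpecResidueField (W.ι y'))
      (Spec.map (W.ι.residueFieldMap y')) := isPullback_fiberToSpecResidueField_of_isPullback sq' y'
  have hm' : m' ≫ f.fiberι (W.ι y') = f'.fiberι y' ≫ j := pullback.lift_fst _ _ _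
  let O : (f.fiber (W.ι y')).Opens := ⟨(f.fiberι (W.ι y')).base ⁻¹' comp f g (W.ι y'), hop⟩
  have hpropO : IsProper (O.ι ≫ f.fiberToSpecResidueField (W.ι y')) := hprop
  let O' := m' ⁻¹ᵁ O
  have hO' : (O' : Set (f'.fiber y')) = (f'.fiberι y').base ⁻¹' comp f' g' y' := by
    ext z
    show (f.fiberι (W.ι y')) (m' z) ∈ comp f g (W.ι y') ↔ (f'.fiberι y') z ∈ comp f' g' y'
    rw [← Scheme.Hom.comp_apply, hm', Scheme.Hom.comp_apply]
    exact (mem_comp_baseChange_iff hg sq' hg' (pullback.lift_fst _ _ _) ((f'.range_fiberι y').le ⟨z, rfl⟩)).symm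
  have hprop' : IsProper (O'.ι ≫ f'.fiberToSpecResidueField y') :=
    MorphismProperty.of_isPullback ((isPullback_morphismRestrict m' O).paste_vert hsq') hpropO
  have hop₁ := isOpen_comp_fiber (f := f₁) hg₁ (q y')
  have hprop₁ := isProper_comp_descend sq y' hSC₁ O' hO' hprop' ⟨_, hop₁⟩ rfl
  haveI : IsLocallyNoetherian X₁ := LocallyOfFiniteType.isLocallyNoetherian f₁
  haveI : CompactSpace X₁ := QuasiCompact.compactSpace_of_compactSpace f₁
  haveI : IsNoetherian X₁ := {}
  let Z₁ := MoreMor.sectionComponents f₁ g₁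
  have hZ₁ : IsLocallyConstructible Z₁ := GISpreadLib.isLocallyConstructible_sectionComponents_noetherian f₁ g₁ hg₁
  have hrange : ∀ y₁, y₁ ∈ f₁.base '' Z₁ := fun y₁ =>
    ⟨g₁ y₁, mem_sectionComponents_section hg₁ y₁, apply_section hg₁ y₁⟩
  obtain ⟨U₁, hyU₁, hC₁, hP₁⟩ := DvrProperLib.exists_proper_component (q y') f₁ Z₁ hZ₁
    (fun y₁ _ => ⟨⟨g₁ y₁, mem_sectionComponents_section hg₁ y₁, apply_section hg₁ y₁,
      sectionComponents_inter_fibre y₁⟩, fun K _ _ => isPreconnected_comp_bc hg₁ y₁ K⟩) hop₁ hprop₁ (by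
    intro T h E _ ⟨Wo, hWo, hW⟩
    let σ : T ⟶ pullback f₁ h :=
      pullback.lift (h ≫ g₁) (𝟙 _) (by rw [Category.assoc, hg₁, Category.comp_id, Category.id_comp])
    refine ⟨σ.base ⁻¹' Wo, hWo.preimage σ.continuous, ?_⟩
    ext t
    have h1 : (pullback.fst f₁ h).base (σ.base t) ∈ Z₁ := by
      rw [← Scheme.Hom.comp_apply, show σ ≫ pullback.fst f₁ h = h ≫ g₁ from pullback.lift_fst _ _ _,
        Scheme.Hom.comp_apply]
      exact mem_sectionComponents_section hg₁ _
    have h2 : (pullback.snd f₁ h).base (σ.base t) = t := by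
      rw [← Scheme.Hom.comp_apply, show σ ≫ pullback.snd f₁ h = 𝟙 T from pullback.lift_snd _ _ _]
      rfl
    have h3 := Set.ext_iff.mp hW (σ.base t)
    simp only [Set.mem_inter_iff, Set.mem_preimage, h1, h2, and_true] at h3
    exact ⟨fun ht => h3.mp ht.1, fun ht => ⟨h3.mpr ht, hrange _⟩⟩)
  let U : Y.Opens := W.ι ''ᵁ (q ⁻¹ᵁ U₁)
  have hUW : U ≤ W := by
    rintro _ ⟨w, -, rfl⟩
    exact w.2
  have hyU : y ∈ U := ⟨y', hyU₁, rfl⟩
  let l : U.toScheme ⟶ W.toScheme := Y.homOfLE hUW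
  have hl : l ≫ W.ι = U.ι := Y.homOfLE_ι hUW
  let P := (f ⁻¹ᵁ U).toScheme
  have sqU : IsPullback (f ⁻¹ᵁ U).ι (f ∣_ U) f U.ι := (isPullback_morphismRestrict f U).flip
  let u : P ⟶ pullback f W.ι := pullback.lift (f ⁻¹ᵁ U).ι ((f ∣_ U) ≫ l) (by rw [Category.assoc, hl]; exact sqU.w)
  have hu : u ≫ j = (f ⁻¹ᵁ U).ι := pullback.lift_fst _ _ _
  have squ : IsPullback u (f ∣_ U) f' l := by
    refine IsPullback.of_right ?_ (pullback.lift_snd _ _ _) sq'
    rw [hu, hl]
    exact sqU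
  let k : U.toScheme ⟶ U₁.toScheme := IsOpenImmersion.lift U₁.ι (l ≫ q) (by
    rintro _ ⟨z, rfl⟩
    rw [Scheme.Opens.range_ι]
    obtain ⟨w, hw, hwz⟩ := z.2
    rw [show ((l ≫ q) : U.toScheme ⟶ Y₁) z = q (l z) from Scheme.Hom.comp_apply _ _ _,
      show l z = w from W.ι.isOpenEmbedding.injective
        (((Scheme.Hom.comp_apply l W.ι z).symm.trans (congr($(hl) z))).trans hwz.symm)]
    exact hw)
  have hk : k ≫ U₁.ι = l ≫ q := IsOpenImmersion.lift_fac _ _ _
  let M : P ⟶ (f₁ ⁻¹ᵁ U₁).toScheme :=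
    (isPullback_morphismRestrict f₁ U₁).flip.lift (u ≫ p) ((f ∣_ U) ≫ k)
      (by rw [Category.assoc, Category.assoc, hk, sq.w, ← Category.assoc, squ.w, Category.assoc])
  have hM : M ≫ (f₁ ⁻¹ᵁ U₁).ι = u ≫ p := IsPullback.lift_fst _ _ _ _
  have sqM : IsPullback M (f ∣_ U) (f₁ ∣_ U₁) k := by
    refine IsPullback.of_right ?_ (IsPullback.lift_snd _ _ _ _) (isPullback_morphismRestrict f₁ U₁).flip
    rw [hM, hk]
    exact squ.paste_horiz sq
  have hpre : (f ⁻¹ᵁ U).ι.base ⁻¹' MoreMor.sectionComponents f g =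
      M.base ⁻¹' ((f₁ ⁻¹ᵁ U₁).ι.base ⁻¹' Z₁) := by
    ext z
    simp only [Set.mem_preimage]
    rw [← Scheme.Hom.comp_apply M, hM, Scheme.Hom.comp_apply]
    show _ ↔ u z ∈ p ⁻¹' Z₁
    rw [← hSC₁, hSC', Set.mem_preimage, ← Scheme.Hom.comp_apply, hu]
  have hC : IsClosed ((f ⁻¹ᵁ U).ι.base ⁻¹' MoreMor.sectionComponents f g) := by
    rw [hpre]; exact hC₁.preimage M.continuous
  refine ⟨U, hyU, hC, ?_⟩
  let J := Scheme.IdealSheafData.vanishingIdeal (X := (f₁ ⁻¹ᵁ U₁).toScheme) (⟨_, hC₁⟩ : Closeds ↥(f₁ ⁻¹ᵁ U₁).toScheme)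
  refine isProper_vanishingIdeal (f ∣_ U) (pullback.fst M J.subschemeι) ?_ _ ?_
  · exact MorphismProperty.of_isPullback ((IsPullback.of_hasPullback M J.subschemeι).flip.paste_vert sqM) hP₁
  · rw [Scheme.Pullback.range_fst, J.range_subschemeι, Scheme.IdealSheafData.coe_support_vanishingIdeal]
    exact hpre.symm

/-- EGA IV 15.6.9: the dimension of a proper component bounds those of its generizations. -/
theorem dim_le_of_proper {X Y : Scheme.{u}} (f : X ⟶ Y) [IsSeparated f] [LocallyOfFinitePresentation f]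
    [QuasiCompact f] (g : Y ⟶ X) (hg : g ≫ f = 𝟙 Y) (y : Y)
    (hop : IsOpen ((f.fiberι y).base ⁻¹' comp f g y))
    (hprop : IsProper (Scheme.Opens.ι (⟨(f.fiberι y).base ⁻¹' comp f g y, hop⟩ : (f.fiber y).Opens) ≫
      f.fiberToSpecResidueField y))
    {y' : Y} (hy' : y' ⤳ y) :
    topologicalKrullDim ↥(comp f g y') ≤ topologicalKrullDim ↥(comp f g y) := by
  obtain ⟨U, hyU, hC, hP⟩ := exists_proper_nhd f g hg y hop hprop
  have hy'U : y' ∈ U := hy'.mem_open U.isOpen hyU
  let J := Scheme.IdealSheafData.vanishingIdeal (X := (f ⁻¹ᵁ U).toScheme)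
    (⟨(f ⁻¹ᵁ U).ι.base ⁻¹' MoreMor.sectionComponents f g, hC⟩ : TopologicalSpace.Closeds ↥(f ⁻¹ᵁ U).toScheme)
  have hqs : QuasiSober ↥(comp f g y') := by
    have e : comp f g y' = closure (comp f g y') ∩ f.base ⁻¹' {y'} :=
      Set.Subset.antisymm (Set.subset_inter subset_closure (connectedComponentIn_subset _ _))
        (closure_inter_comp_subset hg y')
    rw [e]
    exact FibDimLib.quasiSober_closure_inter f _ _
  refine FibDimLib.topologicalKrullDim_le_of_generic fun z _ => ?_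
  have hzy : f z.1 = y' := map_of_mem z.2
  let z' : ↥(f ⁻¹ᵁ U) := ⟨z.1, show f z.1 ∈ U from hzy.symm ▸ hy'U⟩
  have hz'C : z' ∈ (f ⁻¹ᵁ U).ι.base ⁻¹' MoreMor.sectionComponents f g := ((mem_comp_iff y' z.1).mp z.2).1
  obtain ⟨c, hc⟩ : z' ∈ Set.range J.subschemeι := J.range_subschemeι.ge (by
    rw [Scheme.IdealSheafData.coe_support_vanishingIdeal]; exact hz'C)
  let k := J.subschemeι ≫ (f ∣_ U)
  have hkc : U.ι (k c) = y' := by
    rw [← Scheme.Hom.comp_apply, show k ≫ U.ι = J.subschemeι ≫ (f ⁻¹ᵁ U).ι ≫ f by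
      rw [Category.assoc, morphismRestrict_ι], Scheme.Hom.comp_apply, Scheme.Hom.comp_apply, hc]
    exact hzy
  let yU : U.toScheme := ⟨y, hyU⟩
  have hk : k c ⤳ yU := by
    refine U.ι.isOpenEmbedding.isInducing.specializes_iff.mp ?_
    rw [hkc]
    exact hy'
  haveI : IsProper k := hP
  obtain ⟨d, hd, hdy⟩ := (Scheme.Hom.isClosedMap k).specializingMap hk
  have hzd : z.1 ⤳ (f ⁻¹ᵁ U).ι (J.subschemeι d) := by
    have := hd.map (J.subschemeι ≫ (f ⁻¹ᵁ U).ι).continuous
    rwa [Scheme.Hom.comp_apply, Scheme.Hom.comp_apply, hc] at this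
  obtain ⟨w, hzw, hwd, hfw, hle⟩ := exists_specialization_dim f hzd
  have hfd : f ((f ⁻¹ᵁ U).ι (J.subschemeι d)) = y := by
    have h := congr(U.ι $hdy)
    rw [← Scheme.Hom.comp_apply, show k ≫ U.ι = J.subschemeι ≫ (f ⁻¹ᵁ U).ι ≫ f by
      rw [Category.assoc, morphismRestrict_ι], Scheme.Hom.comp_apply, Scheme.Hom.comp_apply] at h
    exact h
  have hwy : f w = y := hfw.trans hfd
  have hwC : w ∈ comp f g y := by
    let w' : ↥(f ⁻¹ᵁ U) := ⟨w, show f w ∈ U from hwy.symm ▸ hyU⟩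
    have : z' ⤳ w' := (f ⁻¹ᵁ U).ι.isOpenEmbedding.isInducing.specializes_iff.mp hzw
    exact (mem_comp_iff y w).mpr ⟨this.mem_closed hC hz'C, hwy⟩
  refine le_trans (le_of_eq ?_) (hle.trans (fibreClosureDim_le_dim hg hwC))
  rw [UOpenLib.fibreClosureDim_eq_inter, hzy]
  have himg : Subtype.val '' closure ({z} : Set ↥(comp f g y')) = closure {z.1} ∩ f.base ⁻¹' {y'} := by
    rw [IsInducing.subtypeVal.closure_eq_preimage_closure_image, Set.image_singleton,
      Subtype.image_preimage_coe]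
    refine Set.Subset.antisymm (fun v hv => ⟨hv.2, map_of_mem hv.1⟩) fun v hv => ⟨?_, hv.1⟩
    exact closure_inter_comp_subset hg y' ⟨closure_mono (Set.singleton_subset_iff.mpr z.2) hv.1, hv.2⟩
  let e := (IsEmbedding.subtypeVal.homeomorphImage (closure ({z} : Set ↥(comp f g y')))).trans (Homeomorph.setCongr himg)
  exact IsHomeomorph.topologicalKrullDim_eq e e.isHomeomorph

end SecNhdLib
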