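import Mathlib
import Groth.Agent.SecNhdLib.ProperNhd
import Groth.Agent.GISpreadLib.Invariance

/-!
# Properness over the locus of proper fibres, geometrically connected fibres
-/

set_option autoImplicit false
universe u

open CategoryTheory CategoryTheory.Limits AlgebraicGeometry TopologicalSpace Topology IsLocalRing

namespace SecNhdLib

open SecCompLib

variable {X X' Y Y' : Scheme.{u}} {f : X ⟶ Y} {f' : X' ⟶ Y'} {p : X' ⟶ X} {q : Y' ⟶ Y}

theorem isProper_fiber_iff [IsSeparated f] [LocallyOfFiniteType f] (sq : IsPullback p f' f q) (y' : Y') :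
    IsProper (f'.fiberToSpecResidueField y') ↔ IsProper (f.fiberToSpecResidueField (q y')) := by
  let b := f.fiberToSpecResidueField (q y')
  let m : f'.fiber y' ⟶ f.fiber (q y') :=
    pullback.map _ _ _ _ p (Spec.map (q.residueFieldMap y')) q sq.w.symm
      (q.SpecMap_residueFieldMap_fromSpecResidueField y').symm
  have hsq : IsPullback m (f'.fiberToSpecResidueField y') b (Spec.map (q.residueFieldMap y')) :=
    isPullback_fiberToSpecResidueField_of_isPullback sq y'
  refine ⟨fun h => ?_, fun h => MorphismProperty.of_isPullback hsq h⟩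
  haveI : IsSeparated b := MorphismProperty.pullback_snd _ _ ‹IsSeparated f›
  haveI : LocallyOfFiniteType b := MorphismProperty.pullback_snd _ _ ‹LocallyOfFiniteType f›
  haveI : UniversallyClosed b := by
    refine MorphismProperty.of_isPullback_of_descendsAlong (P := @UniversallyClosed)
      (Q := @Surjective ⊓ @Flat ⊓ @QuasiCompact) hsq.flip ⟨⟨⟨fun z => ?_⟩, ?_⟩, inferInstance⟩ ?_
    · exact ⟨closedPoint (Y'.residueField y'), Subsingleton.elim (α := PrimeSpectrum (Y.residueField (q y'))) _ _⟩
    · refine HasRingHomProperty.Spec_iff.mpr ?_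
      letI := (q.residueFieldMap y').hom.toAlgebra
      exact RingHom.flat_algebraMap_iff.mpr inferInstance
    · exact h.toUniversallyClosed
  exact {}

theorem isPreconnected_fibre_of_nGeomConnComp (f : X ⟶ Y) (y : Y) (h : MoreMor.nGeomConnComp f y ≤ 1) :
    _root_.IsPreconnected (f.base ⁻¹' {y}) := by
  haveI : Subsingleton (_root_.ConnectedComponents ↥(MoreMor.geomFiber f y)) := (ENat.card_le_one_iff_subsingleton _).mp h
  haveI : PreconnectedSpace ↥(MoreMor.geomFiber f y) := by
    refine ⟨?_⟩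
    rcases isEmpty_or_nonempty ↥(MoreMor.geomFiber f y) with hE | ⟨⟨a⟩⟩
    · rw [Set.univ_eq_empty_iff.mpr hE]; exact isPreconnected_empty
    · rw [← show connectedComponent a = Set.univ from Set.eq_univ_of_forall fun b =>
        ConnectedComponents.coe_eq_coe'.mp (Subsingleton.elim (α := _root_.ConnectedComponents ↥(MoreMor.geomFiber f y)) _ _)]
      exact isPreconnected_connectedComponent
  let s := Spec.map (CommRingCat.ofHom
    (algebraMap (Y.residueField y) (SeparableClosure (Y.residueField y))))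
  let π := pullback.fst (f.fiberToSpecResidueField y) s
  haveI : PreconnectedSpace ↥(pullback (f.fiberToSpecResidueField y) s) := ‹PreconnectedSpace ↥(MoreMor.geomFiber f y)›
  haveI : Surjective π := by
    haveI : Surjective s :=
      ⟨fun z => ⟨closedPoint _, Subsingleton.elim (α := PrimeSpectrum (Y.residueField y)) _ _⟩⟩
    exact MorphismProperty.pullback_fst _ _ inferInstance
  have hrange : Set.range (π ≫ f.fiberι y).base = f.base ⁻¹' {y} := by
    refine Set.Subset.antisymm (fun z ⟨w, hw⟩ => ?_) fun z hz => ?_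
    · rw [← hw, Scheme.Hom.comp_apply]; exact (f.range_fiberι y).le ⟨π w, rfl⟩
    · obtain ⟨v, rfl⟩ := (f.range_fiberι y).ge hz
      obtain ⟨w, rfl⟩ := π.surjective v
      exact ⟨w, Scheme.Hom.comp_apply _ _ _⟩
  rw [← hrange]
  exact isPreconnected_range (π ≫ f.fiberι y).continuous

theorem nGeomConnComp_baseChange (sq : IsPullback p f' f q) (y' : Y') :
    MoreMor.nGeomConnComp f' y' = MoreMor.nGeomConnComp f (q y') :=
  (GISpreadLib.sameComp_geomFiber_comp f f' p q sq y').2

theorem sectionComponents_eq_univ (g : Y ⟶ X) (hg : g ≫ f = 𝟙 Y)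
    (h : ∀ y, _root_.IsPreconnected (f.base ⁻¹' {y})) : MoreMor.sectionComponents f g = Set.univ :=
  Set.eq_univ_of_forall fun x => (h (f x)).subset_connectedComponentIn (apply_section hg _) le_rfl (rfl : f x = f x)

/-- EGA IV 15.7.11, with a section. -/
theorem exists_proper_nhd_of_connected (f : X ⟶ Y) [IsSeparated f] [LocallyOfFinitePresentation f]
    [QuasiCompact f] (g : Y ⟶ X) (hg : g ≫ f = 𝟙 Y) (hconn : ∀ y, _root_.IsPreconnected (f.base ⁻¹' {y}))
    {y : Y} (hy : IsProper (f.fiberToSpecResidueField y)) : ∃ U : Y.Opens, y ∈ U ∧ IsProper (f ∣_ U) := by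
  have hcomp : (f.fiberι y).base ⁻¹' comp f g y = Set.univ := Set.eq_univ_of_forall fun z =>
    (hconn y).subset_connectedComponentIn (apply_section hg y) le_rfl ((f.range_fiberι y).le ⟨z, rfl⟩)
  have hop : IsOpen ((f.fiberι y).base ⁻¹' comp f g y) := hcomp ▸ isOpen_univ
  let O : (f.fiber y).Opens := ⟨_, hop⟩
  have hO : O = ⊤ := Opens.ext hcomp
  have hpropO : IsProper (O.ι ≫ f.fiberToSpecResidueField y) := by
    haveI : IsIso O.ι := by
      haveI : Surjective O.ι := ⟨fun z => (Scheme.Opens.range_ι O).ge (show z ∈ (O : Set _) by rw [hO]; trivial)⟩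
      exact (isIso_iff_isOpenImmersion_and_surjective O.ι).mpr ⟨inferInstance, inferInstance⟩
    exact (MorphismProperty.cancel_left_of_respectsIso @IsProper O.ι _).mpr hy
  obtain ⟨U, hyU, hC, hP⟩ := exists_proper_nhd f g hg y hop hpropO
  refine ⟨U, hyU, ?_⟩
  let Z : Closeds ↥(f ⁻¹ᵁ U).toScheme := ⟨_, hC⟩
  let J := Scheme.IdealSheafData.vanishingIdeal (X := (f ⁻¹ᵁ U).toScheme) Z
  haveI : Surjective J.subschemeι := ⟨fun z => J.range_subschemeι.ge (by
    rw [Scheme.IdealSheafData.coe_support_vanishingIdeal]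
    show (f ⁻¹ᵁ U).ι z ∈ MoreMor.sectionComponents f g
    rw [sectionComponents_eq_univ g hg hconn]
    trivial)⟩
  haveI : UniversallyClosed (J.subschemeι ≫ (f ∣_ U)) := hP.toUniversallyClosed
  haveI := UniversallyClosed.of_comp_surjective J.subschemeι (f ∣_ U)
  exact {}

/-- EGA IV 15.7.11. -/
theorem exists_open_proper {X Y Y' : Scheme.{u}} (f : X ⟶ Y)
    [IsSeparated f] [LocallyOfFinitePresentation f] [QuasiCompact f]
    (g : Y' ⟶ Y) [Surjective g] [LocallyOfFinitePresentation g] [QuasiCompact g]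
    (hg : IsProper g ∨ Flat g) (σ : Y' ⟶ X) (hσ : σ ≫ f = g)
    (hconn : ∀ y : Y, MoreMor.nGeomConnComp f y ≤ 1) :
    ∃ U : Y.Opens, (U : Set Y) = {y : Y | IsProper (f.fiberToSpecResidueField y)} ∧ IsProper (f ∣_ U) := by
  let f' := pullback.snd f g
  let p := pullback.fst f g
  let g' : Y' ⟶ pullback f g := pullback.lift σ (𝟙 _) (by rw [hσ, Category.id_comp])
  have sq : IsPullback p f' f g := IsPullback.of_hasPullback f g
  have hg' : g' ≫ f' = 𝟙 _ := pullback.lift_snd _ _ _
  haveI : IsSeparated f' := MorphismProperty.pullback_snd _ _ inferInstance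
  haveI : LocallyOfFinitePresentation f' := MorphismProperty.pullback_snd _ _ inferInstance
  haveI : QuasiCompact f' := MorphismProperty.pullback_snd _ _ inferInstance
  have hconn' : ∀ y' : Y', _root_.IsPreconnected (f'.base ⁻¹' {y'}) := fun y' =>
    isPreconnected_fibre_of_nGeomConnComp f' y' (by rw [nGeomConnComp_baseChange sq]; exact hconn _)
  let E : Set Y := {y : Y | IsProper (f.fiberToSpecResidueField y)}
  have hloc : ∀ y' ∈ g.base ⁻¹' E, ∃ U : Y'.Opens, y' ∈ U ∧ IsProper (f' ∣_ U) := fun y' hy' =>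
    exists_proper_nhd_of_connected f' g' hg' hconn' ((isProper_fiber_iff sq y').mpr hy')
  have hsub : ∀ (U : Y'.Opens), IsProper (f' ∣_ U) → (U : Set Y') ⊆ g.base ⁻¹' E := fun U hU z hz => by
    have h1 : IsProper ((f' ∣_ U).fiberToSpecResidueField ⟨z, hz⟩) := MorphismProperty.pullback_snd _ _ hU
    have h2 := (isProper_fiber_iff (isPullback_morphismRestrict f' U).flip ⟨z, hz⟩).mp h1
    exact (isProper_fiber_iff sq z).mp h2
  have hopen' : IsOpen (g.base ⁻¹' E) := isOpen_iff_forall_mem_open.mpr fun y' hy' => by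
    obtain ⟨U, hyU, hU⟩ := hloc y' hy'
    exact ⟨U, hsub U hU, U.isOpen, hyU⟩
  have himg : g.base '' (g.base ⁻¹' E) = E := Set.image_preimage_eq E g.surjective
  have hE : IsOpen E := by
    rcases hg with h | h
    · have hc := g.isClosedMap _ hopen'.isClosed_compl
      rw [← Set.preimage_compl, Set.image_preimage_eq _ g.surjective] at hc
      exact isClosed_compl_iff.mp hc
    · rw [← himg]
      exact g.isOpenMap _ hopen'
  let V : Y.Opens := ⟨E, hE⟩
  refine ⟨V, rfl, ?_⟩
  let V' : Y'.Opens := g ⁻¹ᵁ V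
  have hV' : IsProper (f' ∣_ V') := by
    refine (IsZariskiLocalAtTarget.iff_of_iSup_eq_top (P := @IsProper)
      (ι := {U : Y'.Opens // IsProper (f' ∣_ U)}) (fun U => V'.ι ⁻¹ᵁ U.1) ?_).mpr fun U => ?_
    · refine eq_top_iff.mpr fun z _ => Opens.mem_iSup.mpr ?_
      obtain ⟨U, hzU, hU⟩ := hloc z.1 z.2
      exact ⟨⟨U, hU⟩, hzU⟩
    · rw [MorphismProperty.arrow_mk_iso_iff @IsProper (morphismRestrictRestrict f' V' (V'.ι ⁻¹ᵁ U.1))]
      have e : V'.ι ''ᵁ (V'.ι ⁻¹ᵁ U.1) = U.1 := by
        refine Opens.ext ?_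
        show V'.ι.base '' (V'.ι.base ⁻¹' (U.1 : Set Y')) = _
        rw [Set.image_preimage_eq_of_subset]
        rw [Scheme.Opens.range_ι]
        exact hsub U.1 U.2
      rw [e]
      exact U.2
  let k : V'.toScheme ⟶ V.toScheme := g ∣_ V
  have sqk : IsPullback k V'.ι V.ι g := isPullback_morphismRestrict g V
  let M : (f' ⁻¹ᵁ V').toScheme ⟶ (f ⁻¹ᵁ V).toScheme :=
    (isPullback_morphismRestrict f V).flip.lift ((f' ⁻¹ᵁ V').ι ≫ p) ((f' ∣_ V') ≫ k)
      (by rw [Category.assoc, Category.assoc, sqk.w, sq.w, ← morphismRestrict_ι_assoc f' V' g])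
  have sqM : IsPullback M (f' ∣_ V') (f ∣_ V) k := by
    refine IsPullback.of_right ?_ (IsPullback.lift_snd _ _ _ _) (isPullback_morphismRestrict f V).flip
    rw [IsPullback.lift_fst, sqk.w]
    exact (isPullback_morphismRestrict f' V').flip.paste_horiz sq
  haveI : Surjective k := MorphismProperty.of_isPullback sqk.flip ‹Surjective g›
  haveI : UniversallyClosed (f ∣_ V) := by
    rcases hg with h | h
    · haveI : IsProper k := MorphismProperty.of_isPullback sqk.flip h
      haveI : Surjective M := MorphismProperty.of_isPullback sqM.flip ‹Surjective k›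
      haveI : UniversallyClosed (M ≫ (f ∣_ V)) := by
        rw [sqM.w]
        haveI := hV'
        infer_instance
      exact UniversallyClosed.of_comp_surjective M _
    · haveI : Flat k := MorphismProperty.of_isPullback sqk.flip h
      haveI : QuasiCompact k := MorphismProperty.of_isPullback sqk.flip ‹QuasiCompact g›
      exact MorphismProperty.of_isPullback_of_descendsAlong (P := @UniversallyClosed)
        (Q := @Surjective ⊓ @Flat ⊓ @QuasiCompact) sqM.flip ⟨⟨inferInstance, inferInstance⟩, inferInstance⟩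
        hV'.toUniversallyClosed
  exact {}

end SecNhdLib
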