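import Mathlib
import Groth.Agent.SecNhdLib.Main
import Groth.Agent.SecCompLib.Univ

/-!
# Components of the same dimension along a trait
-/

set_option autoImplicit false
universe u

open CategoryTheory CategoryTheory.Limits AlgebraicGeometry TopologicalSpace Topology IsLocalRing

namespace SecNhdLib

open SecCompLib

variable {X Y : Scheme.{u}} {f : X ⟶ Y} [LocallyOfFiniteType f] {g : Y ⟶ X}

/-- Along a trait joining two points with geometrically irreducible components of the same dimension,
the special component lies in the closure of the generic one. -/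
theorem comp_subset_closure_baseChange (hg : g ≫ f = 𝟙 Y) {T P : Scheme.{u}} {p : P ⟶ X} {b : P ⟶ T}
    {h : T ⟶ Y} (sq : IsPullback p b f h) {σ : T ⟶ P} (hσ : σ ≫ b = 𝟙 T) (hσp : σ ≫ p = h ≫ g)
    {s η : T} (hsp : η ⤳ s) (hs : GeomIrred f g (h s)) (hη : GeomIrred f g (h η))
    (hd : topologicalKrullDim ↥(comp f g (h s)) ≤ topologicalKrullDim ↥(comp f g (h η))) :
    comp b σ s ⊆ closure (comp b σ η) := by
  haveI : LocallyOfFiniteType b := MorphismProperty.of_isPullback sq inferInstance
  have hi : ∀ t, GeomIrred f g (h t) → IsIrreducible (comp b σ t) := fun t ht =>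
    isIrreducible_baseChange hg sq hσ hσp ht
  have hdim : ∀ t, GeomIrred f g (h t) →
      topologicalKrullDim ↥(comp b σ t) = topologicalKrullDim ↥(comp f g (h t)) := fun t ht => by
    rw [← fibreDimAt_section hσ (hi t ht), ← fibreDimAt_section hg ht.isIrreducible,
      FibDimLib.fibreDimAt_baseChange sq, ← Scheme.Hom.comp_apply, hσp, Scheme.Hom.comp_apply]
  refine subset_closure_of_dim_le hσ hsp (hi s hs) (hi η hη) ?_
  rw [hdim s hs, hdim η hη]
  exact hd

/-- Flatness and reducedness along a trait joining points of the same dimension. -/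
theorem flat_and_reduced_of_dim (hg : g ≫ f = 𝟙 Y) {A : Type u} [CommRing A] [IsDomain A]
    [IsDiscreteValuationRing A] (h : Spec (CommRingCat.of A) ⟶ Y) (η : Spec (CommRingCat.of A))
    (hη : (η : PrimeSpectrum A).asIdeal = ⊥)
    (hs : GeomIrred f g (h (closedPoint A))) (hη' : GeomIrred f g (h η))
    (hd : topologicalKrullDim ↥(comp f g (h (closedPoint A))) ≤ topologicalKrullDim ↥(comp f g (h η)))
    {x : X} (hx : x ∈ comp f g (h (closedPoint A)))
    (hred : FBase.IsGeomReducedAt (f.fiberToSpecResidueField (f x)) (f.asFiber x))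
    (w : ↥(pullback f h)) (hw : pullback.fst f h w = x) (hwb : pullback.snd f h w = closedPoint A) :
    ((pullback.snd f h).stalkMap w).hom.Flat ∧
      _root_.IsReduced ((pullback f h).presheaf.stalk w ⧸
        (maximalIdeal ((Spec (CommRingCat.of A)).presheaf.stalk (pullback.snd f h w))).map
          ((pullback.snd f h).stalkMap w).hom) := by
  let T := Spec (CommRingCat.of A)
  let b := pullback.snd f h
  let p := pullback.fst f h
  let σ : T ⟶ pullback f h :=
    pullback.lift (h ≫ g) (𝟙 _) (by rw [Category.assoc, hg, Category.comp_id, Category.id_comp])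
  have hσ : σ ≫ b = 𝟙 T := pullback.lift_snd _ _ _
  have hσp : σ ≫ p = h ≫ g := pullback.lift_fst _ _ _
  have sq : IsPullback p b f h := IsPullback.of_hasPullback f h
  have hsp : η ⤳ closedPoint A := (PrimeSpectrum.le_iff_specializes η (closedPoint A)).mp
    (show (η : PrimeSpectrum A).asIdeal ≤ maximalIdeal A from hη ▸ bot_le)
  have hsub := comp_subset_closure_baseChange hg sq hσ hσp hsp hs hη' hd
  have hred' := DvrFlatLib.isReduced_fiber_baseChange f x hred sq w hw
  haveI : _root_.IsReduced ((b.fiber (b w)).presheaf.stalk (b.asFiber w)) := hred'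
  refine ⟨?_, DvrFlatLib.isReduced_stalk_quotient b w⟩
  haveI : LocallyOfFiniteType b := MorphismProperty.pullback_snd _ _ inferInstance
  refine DvrFlatLib.flat_stalkMap_of_openAt b w hwb (fun z hz _ => ?_) hred'
  have hwC : w ∈ comp b σ (closedPoint A) :=
    (mem_comp_baseChange_iff hg sq hσ hσp hwb).mpr (hw.symm ▸ hx)
  have hzw : b.fiberι (b w) z ⤳ w := by
    have h1 := (specializes_iff_mem_closure.mpr hz).map (b.fiberι (b w)).continuous
    rwa [b.fiberι_asFiber] at h1
  have hzb : b (b.fiberι (b w) z) = closedPoint A := ((b.range_fiberι (b w)).le ⟨z, rfl⟩).trans hwb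
  have hzC : b.fiberι (b w) z ∈ comp b σ (closedPoint A) := mem_of_generizes hwC hzb hzw
  intro U hU
  obtain ⟨O, hOU, hO, hzO⟩ := mem_nhds_iff.mp hU
  obtain ⟨c, hcO, hc⟩ := mem_closure_iff.mp (hsub hzC) O hO hzO
  refine Filter.mem_of_superset Filter.univ_mem fun t _ => ?_
  by_cases ht : (t : PrimeSpectrum A).asIdeal = ⊥
  · refine ⟨c, hOU hcO, (map_of_mem hc).trans (PrimeSpectrum.ext (hη.trans ht.symm))⟩
  · refine ⟨b.fiberι (b w) z, mem_of_mem_nhds hU, hzb.trans (PrimeSpectrum.ext ?_)⟩
    exact (IsLocalRing.eq_maximalIdeal ((t : PrimeSpectrum A).isPrime.isMaximal ht)).symm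

/-- A point of geometric reducedness of the component stays in the components along generizations
preserving irreducibility and dimension. -/
theorem mem_sectionComponents_of_dim [IsLocallyNoetherian Y] (hg : g ≫ f = 𝟙 Y) {y : Y} {x x' : X}
    (hx : x ∈ comp f g y) (hsp : x' ⤳ x)
    (hred : FBase.IsGeomReducedAt (f.fiberToSpecResidueField (f x)) (f.asFiber x))
    (hy : GeomIrred f g y) (hy' : GeomIrred f g (f x'))
    (hd : topologicalKrullDim ↥(comp f g y) ≤ topologicalKrullDim ↥(comp f g (f x'))) :
    x' ∈ MoreMor.sectionComponents f g := by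
  have hfx : f x = y := map_of_mem hx
  by_cases hyy : f x' = y
  · rw [mem_sectionComponents_iff]
    show x' ∈ comp f g (f x')
    rw [hyy]
    exact mem_of_generizes hx hyy hsp
  haveI : IsLocallyNoetherian X := LocallyOfFiniteType.isLocallyNoetherian f
  have hne : x ≠ x' := fun e => hyy (e ▸ hfx)
  obtain ⟨A, hX, hA, hcl, hgen⟩ := DvrDomLib.exists_dvr_through_specialization (𝟙 X) x' x hsp hne
  rw [Category.comp_id] at hgen
  haveI := hA
  let S := Spec (CommRingCat.of A)
  let h : S ⟶ Y := hX ≫ f
  let η : S := Spec.map (CommRingCat.ofHom A.subtype) (closedPoint (X.residueField x'))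
  have hηx : hX η = x' := by
    rw [← Scheme.Hom.comp_apply, hgen]; exact X.fromSpecResidueField_apply x' _
  have hη : (η : PrimeSpectrum A).asIdeal = ⊥ := by
    show Ideal.comap A.subtype (maximalIdeal (X.residueField x')) = ⊥
    rw [maximalIdeal_eq_bot, ← RingHom.ker_eq_comap_bot]
    exact (RingHom.injective_iff_ker_eq_bot _).mp Subtype.val_injective
  have hsη : η ⤳ closedPoint A := (PrimeSpectrum.le_iff_specializes η (closedPoint A)).mp
    (show (η : PrimeSpectrum A).asIdeal ≤ maximalIdeal A from hη ▸ bot_le)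
  have hhs : h (closedPoint A) = y := by rw [Scheme.Hom.comp_apply, hcl, hfx]
  have hhη : h η = f x' := by rw [Scheme.Hom.comp_apply, hηx]
  let b := pullback.snd f h
  let p := pullback.fst f h
  let σ : S ⟶ pullback f h :=
    pullback.lift (h ≫ g) (𝟙 _) (by rw [Category.assoc, hg, Category.comp_id, Category.id_comp])
  let τ : S ⟶ pullback f h := pullback.lift hX (𝟙 _) (Category.id_comp _).symm
  have hσ : σ ≫ b = 𝟙 S := pullback.lift_snd _ _ _
  have hσp : σ ≫ p = h ≫ g := pullback.lift_fst _ _ _
  have hbτ : ∀ t, b (τ t) = t := fun t => by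
    rw [← Scheme.Hom.comp_apply, show τ ≫ b = 𝟙 S from pullback.lift_snd _ _ _]; rfl
  have hpτ : ∀ t, p (τ t) = hX t := fun t => by
    rw [← Scheme.Hom.comp_apply, show τ ≫ p = hX from pullback.lift_fst _ _ _]
  have sq : IsPullback p b f h := IsPullback.of_hasPullback f h
  let w := τ (closedPoint A)
  have hw : p w = x := (hpτ _).trans hcl
  have hwC : w ∈ comp b σ (closedPoint A) := (mem_comp_baseChange_iff hg sq hσ hσp (hbτ _)).mpr (by
    rw [hhs]; exact hw.symm ▸ hx)
  have hd' : topologicalKrullDim ↥(comp f g (h (closedPoint A))) ≤ topologicalKrullDim ↥(comp f g (h η)) := by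
    rw [hhs, hhη]; exact hd
  have hw_cl := comp_subset_closure_baseChange hg sq hσ hσp hsη (hhs ▸ hy) (hhη ▸ hy') hd' hwC
  obtain ⟨hfl, hq⟩ := flat_and_reduced_of_dim hg h η hη (hhs ▸ hy) (hhη ▸ hy') hd' (hhs.symm ▸ hx) hred w hw (hbτ _)
  have hG := isConnected_generizations b w (hbτ _) hq hfl
  have hiη := isIrreducible_baseChange hg sq hσ hσp (y' := η) (hhη ▸ hy')
  obtain ⟨ξ, hξC, hC⟩ := exists_generic_comp hσ hiη
  have hξw : ξ ⤳ w := by
    rw [specializes_iff_mem_closure]
    refine closure_minimal ?_ isClosed_closure hw_cl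
    rw [hC]
    exact Set.inter_subset_left
  have hne' : (η : S) ≠ closedPoint A := fun e => hne
    (hcl.symm.trans ((congrArg hX.base e).symm.trans hηx))
  have hsub : {z : ↥(pullback f h) | z ⤳ w ∧ b z ≠ closedPoint A} ⊆ b ⁻¹' {η} := fun z hz => by
    refine PrimeSpectrum.ext ?_
    rw [hη]
    by_contra hne''
    exact hz.2 (PrimeSpectrum.ext (IsLocalRing.eq_maximalIdeal ((b z).isPrime.isMaximal hne'')))
  have hτC : τ η ∈ comp b σ η := by
    rw [comp, connectedComponentIn_eq hξC]
    exact hG.isPreconnected.subset_connectedComponentIn ⟨hξw, by rw [map_of_mem hξC]; exact hne'⟩ hsub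
      ⟨hsη.map τ.continuous, by rw [hbτ]; exact hne'⟩
  have := (mem_comp_baseChange_iff hg sq hσ hσp (hbτ η)).mp hτC
  rw [hpτ, hηx, hhη] at this
  exact (mem_comp_iff _ _).mp this |>.1

end SecNhdLib
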