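import Mathlib
import Groth.Agent.SecNhdLib.DimConst
import Groth.Agent.SecNhdLib.FlatNhd
import Groth.Agent.DvrFlatLib.MinimalScheme

/-!
# Descent of component hypotheses to Noetherian models
-/

set_option autoImplicit false
universe u

open CategoryTheory CategoryTheory.Limits AlgebraicGeometry TopologicalSpace Topology IsLocalRing

namespace SecNhdLib

open SecCompLib

variable {X X₁ Y Y₁ : Scheme.{u}} {f : X ⟶ Y} {f₁ : X₁ ⟶ Y₁} {p : X ⟶ X₁} {q : Y ⟶ Y₁}
  {g : Y ⟶ X} {g₁ : Y₁ ⟶ X₁}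

/-- Geometric irreducibility of the component descends. -/
theorem geomIrred_descend (sq : IsPullback p f f₁ q) (hg₁ : g₁ ≫ f₁ = 𝟙 Y₁) (hg : g ≫ f = 𝟙 Y)
    (hgp : g ≫ p = q ≫ g₁) {u : Y} (h : GeomIrred f g u) : GeomIrred f₁ g₁ (q u) := by
  intro K _ instK
  letI : Algebra (Y₁.residueField (q u)) K := instK
  letI := (q.residueFieldMap u).hom.toAlgebra
  obtain ⟨E, _, a, b, hab⟩ := SweepSix.GeomConn.exists_compositum (k := Y₁.residueField (q u)) K (Y.residueField u)
  letI : Algebra (IsLocalRing.ResidueField (Y.presheaf.stalk u)) E := b.toAlgebra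
  let f₀ := f₁.fiberToSpecResidueField (q u)
  let f₀' := f.fiberToSpecResidueField u
  let π : f.fiber u ⟶ f₁.fiber (q u) :=
    pullback.map _ _ _ _ p (Spec.map (q.residueFieldMap u)) q sq.w.symm (by simp)
  have hπ : π ≫ f₁.fiberι (q u) = f.fiberι u ≫ p := pullback.lift_fst _ _ _
  have hsq : IsPullback π f₀' f₀ (Spec.map (q.residueFieldMap u)) :=
    isPullback_fiberToSpecResidueField_of_isPullback sq u
  have big : IsPullback (FBase.bcπ f₀' E ≫ π) (FBase.bcStr f₀' E) f₀
      (Spec.map (CommRingCat.ofHom b) ≫ Spec.map (q.residueFieldMap u)) :=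
    (IsPullback.of_hasPullback f₀' (Spec.map (CommRingCat.ofHom b))).paste_horiz hsq
  have hk : Spec.map (CommRingCat.ofHom a) ≫
      Spec.map (CommRingCat.ofHom (algebraMap (Y₁.residueField (q u)) K)) =
      Spec.map (CommRingCat.ofHom b) ≫ Spec.map (q.residueFieldMap u) := by
    rw [← Spec.map_comp, ← Spec.map_comp, ← CommRingCat.ofHom_comp, hab]
    rfl
  rw [← hk] at big
  let m : FBase.bc f₀' E ⟶ FBase.bc f₀ K :=
    pullback.lift (FBase.bcπ f₀' E ≫ π) (FBase.bcStr f₀' E ≫ Spec.map (CommRingCat.ofHom a))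
      (by rw [Category.assoc]; exact big.w)
  have sqm : IsPullback m (FBase.bcStr f₀' E) (FBase.bcStr f₀ K) (Spec.map (CommRingCat.ofHom a)) := by
    refine IsPullback.of_right ?_ (pullback.lift_snd _ _ _) (IsPullback.of_hasPullback _ _)
    exact (IsPullback.of_iso big (Iso.refl _) (Iso.refl _) (Iso.refl _) (Iso.refl _)
      ((Category.comp_id _).trans ((pullback.lift_fst _ _ _).symm.trans (Category.id_comp _).symm))
      ((Category.comp_id _).trans (Category.id_comp _).symm) ((Category.comp_id _).trans (Category.id_comp _).symm)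
      ((Category.comp_id _).trans (Category.id_comp _).symm))
  haveI : Surjective m := by
    refine MorphismProperty.of_isPullback (P := @Surjective) sqm.flip ⟨fun z => ?_⟩
    exact ⟨closedPoint E, Subsingleton.elim (α := PrimeSpectrum K) _ _⟩
  have hm : m ≫ FBase.bcπ f₀ K ≫ f₁.fiberι (q u) = (FBase.bcπ f₀' E ≫ f.fiberι u) ≫ p := by
    refine (Category.assoc _ _ _).symm.trans ?_
    refine (congrArg (· ≫ f₁.fiberι (q u)) (pullback.lift_fst _ _ _)).trans ?_
    refine (Category.assoc _ _ _).trans ?_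
    rw [hπ, Category.assoc]
  have himg := (h E).image m m.continuous.continuousOn
  convert himg using 1
  ext v
  constructor
  · intro hv
    obtain ⟨v', rfl⟩ := m.surjective v
    refine ⟨v', ?_, rfl⟩
    have hfu : f ((FBase.bcπ f₀' E ≫ f.fiberι u) v') = u := by
      rw [Scheme.Hom.comp_apply]
      exact (f.range_fiberι u).le ⟨_, rfl⟩
    refine (mem_comp_baseChange_iff hg₁ sq hg hgp hfu).mpr ?_
    rw [← Scheme.Hom.comp_apply, ← hm, Scheme.Hom.comp_apply]
    exact hv
  · rintro ⟨v', hv', rfl⟩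
    have hfu : f ((FBase.bcπ f₀' E ≫ f.fiberι u) v') = u := map_of_mem hv'
    have h1 := (mem_comp_baseChange_iff hg₁ sq hg hgp hfu).mp hv'
    rw [← Scheme.Hom.comp_apply, ← hm, Scheme.Hom.comp_apply] at h1
    exact h1

/-- The dimension of a component descends. -/
theorem dim_comp_descend [LocallyOfFiniteType f₁] (sq : IsPullback p f f₁ q) (hg₁ : g₁ ≫ f₁ = 𝟙 Y₁) (hg : g ≫ f = 𝟙 Y)
    (hgp : g ≫ p = q ≫ g₁) {u : Y} (h : GeomIrred f g u) :
    topologicalKrullDim ↥(comp f₁ g₁ (q u)) = topologicalKrullDim ↥(comp f g u) := by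
  haveI : LocallyOfFiniteType f := MorphismProperty.of_isPullback sq inferInstance
  rw [← fibreDimAt_section hg h.isIrreducible,
    ← fibreDimAt_section hg₁ (geomIrred_descend sq hg₁ hg hgp h).isIrreducible,
    FibDimLib.fibreDimAt_baseChange sq, ← Scheme.Hom.comp_apply (f := g), hgp, Scheme.Hom.comp_apply]

/-- A Noetherian model of a morphism with a section over an affine base. -/
theorem exists_model_section (f : X ⟶ Y) [IsAffine Y] [LocallyOfFinitePresentation f] [QuasiCompact f]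
    [QuasiSeparated f] (g : Y ⟶ X) (hg : g ≫ f = 𝟙 Y) :
    ∃ (X₁ Y₁ : Scheme.{u}) (f₁ : X₁ ⟶ Y₁) (g₁ : Y₁ ⟶ X₁) (p : X ⟶ X₁) (q : Y ⟶ Y₁),
      IsNoetherian Y₁ ∧ LocallyOfFiniteType f₁ ∧ QuasiCompact f₁ ∧ g₁ ≫ f₁ = 𝟙 Y₁ ∧ IsPullback p f f₁ q ∧
        g ≫ p = q ≫ g₁ := by
  obtain ⟨X₀, Y₀, S₀, f₀, h₀, q₀, p₀, q', _, _, _, _, _, -, sq⟩ := ConsLib.exists_noetherian_model f (𝟙 Y)
  haveI : IsLocallyNoetherian Y₀ := LocallyOfFiniteType.isLocallyNoetherian h₀
  haveI : CompactSpace Y₀ := QuasiCompact.compactSpace_of_compactSpace h₀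
  haveI : LocallyOfFiniteType f₀ := locallyOfFiniteType_of_comp f₀ h₀
  haveI : QuasiCompact f₀ := QuasiCompact.of_comp f₀ h₀
  haveI : IsLocallyNoetherian X₀ := LocallyOfFiniteType.isLocallyNoetherian f₀
  haveI : CompactSpace X₀ := QuasiCompact.compactSpace_of_compactSpace f₀
  have hq₁ : (g ≫ p₀) ≫ f₀ = q' := by rw [Category.assoc, sq.w, reassoc_of% hg]
  refine ⟨pullback f₀ f₀, X₀, pullback.snd f₀ f₀, pullback.diagonal f₀,
    pullback.lift p₀ (f ≫ g ≫ p₀) (by rw [Category.assoc, hq₁]; exact sq.w), g ≫ p₀, {},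
    MorphismProperty.pullback_snd _ _ inferInstance, MorphismProperty.pullback_snd _ _ inferInstance,
    pullback.lift_snd _ _ _, ?_, ?_⟩
  · refine IsPullback.of_right ?_ (pullback.lift_snd _ _ _) (IsPullback.of_hasPullback f₀ f₀)
    rw [pullback.lift_fst, hq₁]
    exact sq
  · apply pullback.hom_ext
    · refine (Category.assoc _ _ _).trans ((congrArg (g ≫ ·) (pullback.lift_fst _ _ _)).trans ?_)
      simp
    · refine (Category.assoc _ _ _).trans ((congrArg (g ≫ ·) (pullback.lift_snd _ _ _)).trans ?_)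
      simp [reassoc_of% hg]

end SecNhdLib
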