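import Mathlib
import Groth.Agent.SecNhdLib.FpModel

/-!
# Flatness along components of constant dimension, finite presentation over a reduced base
-/

set_option autoImplicit false
universe u

open CategoryTheory CategoryTheory.Limits AlgebraicGeometry TopologicalSpace Topology IsLocalRing

namespace SecNhdLib

open SecCompLib

variable {X X₁ Y Y₁ : Scheme.{u}} {f : X ⟶ Y} {f₁ : X₁ ⟶ Y₁} {p : X ⟶ X₁} {q : Y ⟶ Y₁}
  {g : Y ⟶ X} {g₁ : Y₁ ⟶ X₁}

/-- Geometric irreducibility of the component is stable under base change. -/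
theorem geomIrred_baseChange (sq : IsPullback p f f₁ q) (hg₁ : g₁ ≫ f₁ = 𝟙 Y₁) (hg : g ≫ f = 𝟙 Y)
    (hgp : g ≫ p = q ≫ g₁) {u : Y} (h : GeomIrred f₁ g₁ (q u)) : GeomIrred f g u := by
  intro K _ instK
  letI : Algebra (Y.residueField u) K := instK
  letI : Algebra (IsLocalRing.ResidueField (Y₁.presheaf.stalk (q u))) K :=
    ((algebraMap (Y.residueField u) K).comp (q.residueFieldMap u).hom).toAlgebra
  let f₀ := f₁.fiberToSpecResidueField (q u)
  let f₀' := f.fiberToSpecResidueField u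
  let π : f.fiber u ⟶ f₁.fiber (q u) :=
    pullback.map _ _ _ _ p (Spec.map (q.residueFieldMap u)) q sq.w.symm (by simp)
  have hπ : π ≫ f₁.fiberι (q u) = f.fiberι u ≫ p := pullback.lift_fst _ _ _
  have hsq : IsPullback π f₀' f₀ (Spec.map (q.residueFieldMap u)) :=
    isPullback_fiberToSpecResidueField_of_isPullback sq u
  have big : IsPullback (FBase.bcπ f₀' K ≫ π) (FBase.bcStr f₀' K) f₀
      (Spec.map (CommRingCat.ofHom (algebraMap (IsLocalRing.ResidueField (Y₁.presheaf.stalk (q u))) K))) := by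
    have := (IsPullback.of_hasPullback f₀' (Spec.map (CommRingCat.ofHom (algebraMap (Y.residueField u) K)))).paste_horiz hsq
    rw [← Spec.map_comp] at this
    exact this
  let e : FBase.bc f₀' K ≅ FBase.bc f₀ K := big.isoPullback
  have he : e.inv ≫ (FBase.bcπ f₀' K ≫ f.fiberι u) ≫ p = FBase.bcπ f₀ K ≫ f₁.fiberι (q u) := by
    refine Eq.trans ?_ (congrArg (· ≫ f₁.fiberι (q u)) big.isoPullback_inv_fst)
    exact (congrArg (e.inv ≫ ·) ((Category.assoc _ _ _).trans ((congrArg (FBase.bcπ f₀' K ≫ ·) hπ.symm).trans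
      (Category.assoc _ _ _).symm))).trans (Category.assoc _ _ _).symm
  have himg := (h K).image e.inv e.inv.continuous.continuousOn
  convert himg using 1
  ext v
  constructor
  · intro hv
    refine ⟨e.hom v, ?_, congr($(e.hom_inv_id) v)⟩
    have h1 := (mem_comp_baseChange_iff hg₁ sq hg hgp (map_of_mem hv)).mp hv
    show (FBase.bcπ f₀ K ≫ f₁.fiberι (q u)) (e.hom v) ∈ comp f₁ g₁ (q u)
    rw [← he, Scheme.Hom.comp_apply, show e.inv (e.hom v) = v from congr($(e.hom_inv_id) v), Scheme.Hom.comp_apply]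
    exact h1
  · rintro ⟨w, hw, rfl⟩
    have hfu : f ((FBase.bcπ f₀' K ≫ f.fiberι u) (e.inv w)) = u := by
      rw [Scheme.Hom.comp_apply]
      exact (f.range_fiberι u).le ⟨_, rfl⟩
    refine (mem_comp_baseChange_iff hg₁ sq hg hgp hfu).mpr ?_
    rw [← Scheme.Hom.comp_apply, ← Scheme.Hom.comp_apply, he]
    exact hw

/-- The canonical section of a base change. -/
noncomputable abbrev secBC {X Y T : Scheme.{u}} (f : X ⟶ Y) (g : Y ⟶ X) (hg : g ≫ f = 𝟙 Y) (h : T ⟶ Y) :
    T ⟶ pullback f h :=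
  pullback.lift (h ≫ g) (𝟙 _) (by rw [Category.assoc, hg, Category.comp_id, Category.id_comp])

/-- Hypotheses on a component pass to a base change. -/
theorem baseChange_data {X Y T : Scheme.{u}} (f : X ⟶ Y) [LocallyOfFiniteType f] (g : Y ⟶ X) (hg : g ≫ f = 𝟙 Y)
    (h : T ⟶ Y) (t : T) (ht : GeomIrred f g (h t)) :
    GeomIrred (pullback.snd f h) (secBC f g hg h) t ∧
      topologicalKrullDim ↥(comp (pullback.snd f h) (secBC f g hg h) t) = topologicalKrullDim ↥(comp f g (h t)) := by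
  have sq := IsPullback.of_hasPullback f h
  have h1 : GeomIrred (pullback.snd f h) (secBC f g hg h) t :=
    geomIrred_baseChange sq hg (pullback.lift_snd _ _ _) (pullback.lift_fst _ _ _) ht
  exact ⟨h1, (dim_comp_descend sq hg (pullback.lift_snd _ _ _) (pullback.lift_fst _ _ _) h1).symm⟩

/-- Flatness is local along open base changes. -/
theorem flat_of_openBaseChange {X Y T : Scheme.{u}} (f : X ⟶ Y) (j : T ⟶ Y) [IsOpenImmersion j]
    (w : ↥(pullback f j)) (h : ((pullback.snd f j).stalkMap w).hom.Flat) :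
    (f.stalkMap (pullback.fst f j w)).hom.Flat := by
  let b := pullback.snd f j
  let m := pullback.fst f j
  have h1 : ((b ≫ j).stalkMap w).hom.Flat := by
    rw [Scheme.Hom.stalkMap_comp]
    exact RingHom.Flat.comp (RingHom.Flat.of_bijective (ConcreteCategory.bijective_of_isIso (j.stalkMap (b w)))) h
  have h2 : ((m ≫ f).stalkMap w).hom.Flat := by
    rw [Scheme.Hom.stalkMap_congr_hom _ _ (pullback.condition (f := f) (g := j)) w]
    exact RingHom.Flat.comp (RingHom.Flat.of_bijective (ConcreteCategory.bijective_of_isIso _)) h1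
  rw [Scheme.Hom.stalkMap_comp] at h2
  have e : (f.stalkMap (m w)).hom =
      (inv (m.stalkMap w)).hom.comp (f.stalkMap (m w) ≫ m.stalkMap w).hom := by
    rw [← CommRingCat.hom_comp, Category.assoc, IsIso.hom_inv_id, Category.comp_id]
  rw [e]
  exact RingHom.Flat.comp h2 (RingHom.Flat.of_bijective (ConcreteCategory.bijective_of_isIso (inv (m.stalkMap w))))

/-- Flatness downstairs: generic points of the base coming from points of constant dimension. -/
theorem flat_descend {X X₁ Y Y₁ : Scheme.{u}} {f : X ⟶ Y} {f₁ : X₁ ⟶ Y₁} [IsLocallyNoetherian Y₁] [IsReduced Y₁]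
    [LocallyOfFiniteType f₁] {p : X ⟶ X₁} {q : Y ⟶ Y₁} {g : Y ⟶ X} {g₁ : Y₁ ⟶ X₁}
    (sq : IsPullback p f f₁ q) (hg₁ : g₁ ≫ f₁ = 𝟙 Y₁) (hg : g ≫ f = 𝟙 Y) (hgp : g ≫ p = q ≫ g₁)
    (hq : ∀ η : Y₁, (∀ z, z ⤳ η → z = η) → η ∈ Set.range q)
    (hgi : ∀ y, GeomIrred f g y) {x₀ : X} (hx₀ : x₀ ∈ comp f g (f x₀))
    (hc : ∀ z, topologicalKrullDim ↥(comp f g z) = topologicalKrullDim ↥(comp f g (f x₀)))
    (hred : FBase.IsGeomReducedAt (f.fiberToSpecResidueField (f x₀)) (f.asFiber x₀)) :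
    (f.stalkMap x₀).hom.Flat := by
  haveI := UOpenLib.locallyOfFinitePresentation_of_isLocallyNoetherian f₁
  refine FlatLib.flatAt_baseChange sq ?_
  have hpy : f₁ (p x₀) = q (f x₀) := by rw [← Scheme.Hom.comp_apply, sq.w, Scheme.Hom.comp_apply]
  refine DvrFlatLib.flat_stalkMap_of_dvr_maximal f₁ (p x₀) fun A _ _ _ t hts hmax w hw hwb => ?_
  let η : Spec (CommRingCat.of A) := (⟨⊥, Ideal.isPrime_bot⟩ : PrimeSpectrum A)
  obtain ⟨u, hu⟩ := hq (t η) (hmax η rfl)
  have hts' : t (closedPoint A) = q (f x₀) := hts.trans hpy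
  have hd : topologicalKrullDim ↥(comp f₁ g₁ (t (closedPoint A))) ≤ topologicalKrullDim ↥(comp f₁ g₁ (t η)) := by
    rw [hts', ← hu, dim_comp_descend sq hg₁ hg hgp (hgi _), dim_comp_descend sq hg₁ hg hgp (hgi _), hc u]
  have hx₁ : p x₀ ∈ comp f₁ g₁ (t (closedPoint A)) := by
    rw [hts']
    exact (mem_comp_baseChange_iff hg₁ sq hg hgp rfl).mp hx₀
  exact (flat_and_reduced_of_dim hg₁ t η rfl (hts'.symm ▸ geomIrred_descend sq hg₁ hg hgp (hgi _))
    (hu ▸ geomIrred_descend sq hg₁ hg hgp (hgi _)) hd hx₁ (isGeomReducedAt_of_baseChange sq x₀ hred) w hw hwb).1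

/-- EGA IV 15.6.7 over an arbitrary reduced base. -/
theorem flat_of_dim_const_fp {X Y : Scheme.{u}} [IsReduced Y] (f : X ⟶ Y) [LocallyOfFinitePresentation f]
    [QuasiCompact f] [QuasiSeparated f] (g : Y ⟶ X) (hg : g ≫ f = 𝟙 Y) (hgi : ∀ y, GeomIrred f g y) (x₀ : X)
    (hx₀ : x₀ ∈ comp f g (f x₀)) (V : Set Y) (hV : V ∈ nhds (f x₀))
    (hc : ∀ z ∈ V, topologicalKrullDim ↥(comp f g z) = topologicalKrullDim ↥(comp f g (f x₀)))
    (hred : FBase.IsGeomReducedAt (f.fiberToSpecResidueField (f x₀)) (f.asFiber x₀)) :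
    (f.stalkMap x₀).hom.Flat := by
  obtain ⟨O, hOV, hO, hyO⟩ := mem_nhds_iff.mp hV
  obtain ⟨W, hW, hyW, hWO⟩ := exists_isAffineOpen_mem_and_subset (x := f x₀) (U := ⟨O, hO⟩) hyO
  haveI : IsAffine W.toScheme := hW
  let f' := pullback.snd f W.ι
  let g' := secBC f g hg W.ι
  have sq' := IsPullback.of_hasPullback f W.ι
  obtain ⟨x', hx', hx'y⟩ := UOpenLib.image_fst_snd sq' x₀ ⟨f x₀, hyW⟩ rfl
  obtain rfl := hx'
  refine flat_of_openBaseChange f W.ι x' ?_
  haveI : LocallyOfFinitePresentation f' := MorphismProperty.pullback_snd _ _ inferInstance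
  haveI : QuasiCompact f' := MorphismProperty.pullback_snd _ _ inferInstance
  haveI : QuasiSeparated f' := MorphismProperty.pullback_snd _ _ inferInstance
  obtain ⟨X₁, Y₁, f₁, g₁, p, q, _, _, _, hg₁, sq, hgp⟩ := exists_model_section f' g' (pullback.lift_snd _ _ _)
  obtain ⟨U₀, hU₀, hqU⟩ := GISpreadLib.exists_affine_mem (q ⟨f (pullback.fst f W.ι x'), hyW⟩)
  obtain ⟨W', hW', hyW', hW'U⟩ := exists_isAffineOpen_mem_and_subset
    (x := (⟨f (pullback.fst f W.ι x'), hyW⟩ : W.toScheme)) (U := q ⁻¹ᵁ U₀) hqU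
  let φ := (q.appLE U₀ W' hW'U).hom
  let R₁ := φ.range
  haveI : IsNoetherianRing Γ(Y₁, U₀) := IsLocallyNoetherian.component_noetherian ⟨U₀, hU₀⟩
  haveI : IsNoetherianRing R₁ := isNoetherianRing_of_surjective _ _ φ.rangeRestrict φ.rangeRestrict_surjective
  haveI : _root_.IsReduced R₁ := isReduced_of_injective R₁.subtype Subtype.val_injective
  let ι₁ : Spec (CommRingCat.of R₁) ⟶ Y₁ := Spec.map (CommRingCat.ofHom φ.rangeRestrict) ≫ hU₀.fromSpec
  let q₂ : Spec Γ(W.toScheme, W') ⟶ Spec (CommRingCat.of R₁) := Spec.map (CommRingCat.ofHom R₁.subtype)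
  have hq₂ : q₂ ≫ ι₁ = hW'.fromSpec ≫ q := by
    rw [← Category.assoc, ← Spec.map_comp]
    exact IsAffineOpen.SpecMap_appLE_fromSpec q hU₀ hW' hW'U
  let f₂ := pullback.snd f₁ ι₁
  let g₂ := secBC f₁ g₁ hg₁ ι₁
  let f'' := pullback.snd f' hW'.fromSpec
  let g'' := secBC f' g' (pullback.lift_snd _ _ _) hW'.fromSpec
  let p₂ : pullback f' hW'.fromSpec ⟶ pullback f₁ ι₁ :=
    pullback.lift (pullback.fst f' hW'.fromSpec ≫ p) (f'' ≫ q₂)
      (by rw [Category.assoc, sq.w, pullback.condition_assoc, Category.assoc, hq₂])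
  have sq₂ : IsPullback p₂ f'' f₂ q₂ := by
    refine IsPullback.of_right ?_ (pullback.lift_snd _ _ _) (IsPullback.of_hasPullback f₁ ι₁)
    rw [pullback.lift_fst, hq₂]
    exact (IsPullback.of_hasPullback f' hW'.fromSpec).paste_horiz sq
  have hgp₂ : g'' ≫ p₂ = q₂ ≫ g₂ := by
    apply pullback.hom_ext
    · simp only [Category.assoc, g'', g₂, p₂, secBC, pullback.lift_fst, pullback.lift_fst_assoc]
      rw [hgp, ← reassoc_of% hq₂]
    · simp only [Category.assoc, g'', g₂, p₂, f'', secBC, pullback.lift_snd, pullback.lift_snd_assoc,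
        Category.comp_id, Category.id_comp]
  obtain ⟨u, hu⟩ : (⟨f (pullback.fst f W.ι x'), hyW⟩ : W.toScheme) ∈ Set.range hW'.fromSpec :=
    hW'.range_fromSpec.ge hyW'
  obtain ⟨x'', hx'', hx''u⟩ := UOpenLib.image_fst_snd (IsPullback.of_hasPullback f' hW'.fromSpec) x' u
    (hx'y.trans hu.symm)
  obtain rfl := hx''
  refine flat_of_openBaseChange f' hW'.fromSpec x'' ?_
  have hWV : ∀ z : W.toScheme, W.ι z ∈ V := fun z => hOV (hWO z.2)
  have hgi' : ∀ z, GeomIrred f' g' z := fun z => (baseChange_data f g hg W.ι z (hgi _)).1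
  have hdim : ∀ v, topologicalKrullDim ↥(comp f'' g'' v) =
      topologicalKrullDim ↥(comp f g (f (pullback.fst f W.ι (pullback.fst f' hW'.fromSpec x'')))) := fun v => by
    rw [(baseChange_data f' g' (pullback.lift_snd _ _ _) hW'.fromSpec v (hgi' _)).2,
      (baseChange_data f g hg W.ι _ (hgi _)).2, hc _ (hWV _)]
  refine flat_descend sq₂ (pullback.lift_snd _ _ _) (pullback.lift_snd _ _ _) hgp₂ (fun η hη => ?_)
    (fun z => (baseChange_data f' g' (pullback.lift_snd _ _ _) hW'.fromSpec z (hgi' _)).1) ?_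
    (fun z => (hdim z).trans (hdim _).symm) ?_
  · have hmin : (η : PrimeSpectrum R₁).asIdeal ∈ minimalPrimes R₁ := by
      refine ⟨⟨(η : PrimeSpectrum R₁).isPrime, bot_le⟩, fun J hJ hle => ?_⟩
      have := hη (⟨J, hJ.1⟩ : PrimeSpectrum R₁) ((PrimeSpectrum.le_iff_specializes (⟨J, hJ.1⟩ : PrimeSpectrum R₁) η).mp hle)
      exact (congrArg PrimeSpectrum.asIdeal this).ge
    obtain ⟨Q, hQ, hQc⟩ := Ideal.exists_comap_eq_of_mem_minimalPrimes_of_injective
      (f := R₁.subtype) Subtype.val_injective _ hmin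
    exact ⟨(⟨Q, hQ⟩ : PrimeSpectrum Γ(W.toScheme, W')), PrimeSpectrum.ext hQc⟩
  · refine (mem_comp_baseChange_iff (pullback.lift_snd _ _ _) (IsPullback.of_hasPullback f' hW'.fromSpec)
      (pullback.lift_snd _ _ _) (pullback.lift_fst _ _ _) rfl).mpr ?_
    rw [show hW'.fromSpec (f'' x'') = f' (pullback.fst f' hW'.fromSpec x'') by
      rw [← Scheme.Hom.comp_apply, ← pullback.condition, Scheme.Hom.comp_apply]]
    refine (mem_comp_baseChange_iff hg sq' (pullback.lift_snd _ _ _) (pullback.lift_fst _ _ _) rfl).mpr ?_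
    rw [← Scheme.Hom.comp_apply (f := pullback.snd f W.ι), ← sq'.w, Scheme.Hom.comp_apply]
    exact hx₀
  · exact EquidimLib.isGeomReducedAt_baseChange f' _
      (EquidimLib.isGeomReducedAt_baseChange f _ hred sq' _ rfl) (IsPullback.of_hasPullback f' hW'.fromSpec) x'' rfl

end SecNhdLib
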