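import Mathlib
import Groth.Agent.SecNhdLib.FpFlat
import Groth.Agent.DepthLib.GeomRedOpen

/-!
# The locus of constant dimension and geometric reducedness inside the section components
-/

set_option autoImplicit false
universe u

open CategoryTheory CategoryTheory.Limits AlgebraicGeometry TopologicalSpace Topology IsLocalRing

namespace SecNhdLib

open SecCompLib

variable {X Y : Scheme.{u}} (f : X ⟶ Y) (g : Y ⟶ X)

/-- Section components of a morphism whose components are irreducible restrict to quasi-compact pieces. -/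
theorem preimage_sectionComponents_restriction {W : Y.Opens} {U' : X.Opens} {fU : U'.toScheme ⟶ W.toScheme}
    {gU : W.toScheme ⟶ U'.toScheme} (hsec : gU ≫ fU = 𝟙 _) (hfU : fU ≫ W.ι = U'.ι ≫ f)
    (hsub : U'.ι.base '' MoreMor.sectionComponents fU gU ⊆ MoreMor.sectionComponents f g)
    (hirr : ∀ y, IsIrreducible (comp f g y)) :
    U'.ι.base ⁻¹' MoreMor.sectionComponents f g = MoreMor.sectionComponents fU gU := by
  refine Set.Subset.antisymm (fun v hv => ?_) fun v hv => hsub ⟨v, hv, rfl⟩
  have hfv : ∀ u, f (U'.ι u) = W.ι (fU u) := fun u => by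
    rw [← Scheme.Hom.comp_apply, ← hfU, Scheme.Hom.comp_apply]
  have hgu : fU (gU (fU v)) = fU v := by rw [← Scheme.Hom.comp_apply, hsec]; rfl
  have h1 : U'.ι (gU (fU v)) ∈ comp f g (W.ι (fU v)) := by
    have h : gU (fU v) ∈ MoreMor.sectionComponents fU gU := by
      show gU (fU v) ∈ connectedComponentIn (fU ⁻¹' {fU (gU (fU v))}) (gU (fU (gU (fU v))))
      rw [hgu]
      exact mem_connectedComponentIn hgu
    have h2 := hsub ⟨_, h, rfl⟩
    show U'.ι (gU (fU v)) ∈ connectedComponentIn (f ⁻¹' {W.ι (fU v)}) (g (W.ι (fU v)))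
    have h3 : U'.ι (gU (fU v)) ∈ connectedComponentIn (f ⁻¹' {f (U'.ι (gU (fU v)))}) (g (f (U'.ι (gU (fU v))))) := h2
    rwa [hfv, hgu] at h3
  have h2 : U'.ι v ∈ comp f g (W.ι (fU v)) := by
    have h3 : U'.ι v ∈ connectedComponentIn (f ⁻¹' {f (U'.ι v)}) (g (f (U'.ι v))) := hv
    rwa [hfv] at h3
  have hirr' := (hirr (W.ι (fU v))).preimage U'.ι.isOpenEmbedding ⟨_, h2, v, rfl⟩
  refine hirr'.isConnected.isPreconnected.subset_connectedComponentIn h1 (fun u hu => ?_) h2
  refine W.ι.isOpenEmbedding.injective ?_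
  rw [← hfv]
  exact map_of_mem (show U'.ι u ∈ comp f g (W.ι (fU v)) from hu)

variable [LocallyOfFiniteType f]

/-- The hypotheses at a point of the constant-dimension locus. -/
structure ConstPt (x : X) : Prop where
  mem : x ∈ comp f g (f x)
  const : ∃ V ∈ nhds (f x), ∀ z ∈ V, topologicalKrullDim ↥(comp f g z) = topologicalKrullDim ↥(comp f g (f x))
  red : FBase.IsGeomReducedAt (f.fiberToSpecResidueField (f x)) (f.asFiber x)

variable {f g}

omit [LocallyOfFiniteType f] in
theorem ConstPt.dim_eq {x x' : X} (h : ConstPt f g x) (hx : x' ⤳ x) :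
    topologicalKrullDim ↥(comp f g (f x)) ≤ topologicalKrullDim ↥(comp f g (f x')) := by
  obtain ⟨V, hV, hc⟩ := h.const
  exact (hc _ (mem_interior_iff_mem_nhds.mpr hV |> fun hi =>
    interior_subset ((hx.map f.continuous).mem_open isOpen_interior hi))).ge

/-- Locally Noetherian base. -/
theorem mem_interior_of_constPt [IsLocallyNoetherian Y] (hg : g ≫ f = 𝟙 Y) (hgi : ∀ y, GeomIrred f g y) {x : X}
    (h : ConstPt f g x) : x ∈ interior (MoreMor.sectionComponents f g) := by
  obtain ⟨W, U', fU, gU, y', x', hW, hsec, hfU, hqc, hy', rfl, -, -, hsub⟩ :=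
    exists_restriction f g hg (f x) h.mem
  haveI := hqc
  haveI : LocallyOfFiniteType fU := by
    haveI : LocallyOfFiniteType (fU ≫ W.ι) := by rw [hfU]; infer_instance
    exact locallyOfFiniteType_of_comp fU W.ι
  haveI : IsLocallyNoetherian U'.toScheme := LocallyOfFiniteType.isLocallyNoetherian fU
  have hSC := preimage_sectionComponents_restriction f g hsec hfU hsub fun y => (hgi y).isIrreducible
  have hgen : ∀ v, v ⤳ x' → v ∈ MoreMor.sectionComponents fU gU := fun v hv => by
    rw [← hSC]
    exact mem_sectionComponents_of_dim hg h.mem (hv.map U'.ι.continuous) h.red (hgi _) (hgi _)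
      (h.dim_eq (hv.map U'.ι.continuous))
  have hcons := GISpreadLib.isLocallyConstructible_sectionComponents fU gU hsec
  have hint := (Groth.Agent.ProConsLib.mem_interior_iff_forall_specializes
    (Groth.Agent.ProConsLib.isLocallyConstructible_iff_ind_and_pro.mp hcons).1 x').mpr hgen
  exact mem_interior.mpr ⟨U'.ι.base '' interior (MoreMor.sectionComponents fU gU),
    (Set.image_mono interior_subset).trans hsub, U'.ι.isOpenEmbedding.isOpenMap _ isOpen_interior, x', hint, rfl⟩

/-- Finitely presented morphisms. -/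
theorem mem_interior_of_constPt_fp [LocallyOfFinitePresentation f] [QuasiCompact f] [QuasiSeparated f]
    (hg : g ≫ f = 𝟙 Y) (hgi : ∀ y, GeomIrred f g y) {x : X}
    (h : ConstPt f g x) : x ∈ interior (MoreMor.sectionComponents f g) := by
  have hcons := GISpreadLib.isLocallyConstructible_sectionComponents f g hg
  refine (Groth.Agent.ProConsLib.mem_interior_iff_forall_specializes
    (Groth.Agent.ProConsLib.isLocallyConstructible_iff_ind_and_pro.mp hcons).1 x).mpr fun x' hx' => ?_
  obtain ⟨W, hW, hxW⟩ := GISpreadLib.exists_affine_mem (f x)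
  haveI : IsAffine W.toScheme := hW
  let f' := pullback.snd f W.ι
  let g' := secBC f g hg W.ι
  let j := pullback.fst f W.ι
  have sq' := IsPullback.of_hasPullback f W.ι
  haveI : LocallyOfFinitePresentation f' := MorphismProperty.pullback_snd _ _ inferInstance
  haveI : QuasiCompact f' := MorphismProperty.pullback_snd _ _ inferInstance
  haveI : QuasiSeparated f' := MorphismProperty.pullback_snd _ _ inferInstance
  obtain ⟨v, hv, hvy⟩ := UOpenLib.image_fst_snd sq' x ⟨f x, hxW⟩ rfl
  obtain ⟨v', hv', hv'y⟩ := UOpenLib.image_fst_snd sq' x'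
    ⟨f x', (hx'.map f.continuous).mem_open W.isOpen hxW⟩ rfl
  have hvv : v' ⤳ v := by
    refine j.isOpenEmbedding.isInducing.specializes_iff.mp ?_
    rw [hv, hv']; exact hx'
  have hgi' : ∀ z, GeomIrred f' g' z := fun z => (baseChange_data f g hg W.ι z (hgi _)).1
  obtain ⟨X₁, Y₁, f₁, g₁, p, q, _, _, _, hg₁, sq, hgp⟩ := exists_model_section f' g' (pullback.lift_snd _ _ _)
  have hSC' := Groth.Agent.S1324.result f g hg f' j W.ι sq' g' (pullback.lift_snd _ _ _) (pullback.lift_fst _ _ _)
  have hSC₁ := Groth.Agent.S1324.result f₁ g₁ hg₁ f' p q sq g' (pullback.lift_snd _ _ _) hgp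
  have hfp : ∀ u, f₁ (p u) = q (f' u) := fun u => by
    rw [← Scheme.Hom.comp_apply, sq.w, Scheme.Hom.comp_apply]
  have hdim : ∀ u, topologicalKrullDim ↥(comp f₁ g₁ (f₁ (p u))) = topologicalKrullDim ↥(comp f g (f (j u))) :=
    fun u => by
    rw [hfp, dim_comp_descend sq hg₁ (pullback.lift_snd _ _ _) hgp (hgi' _),
      (baseChange_data f g hg W.ι (f' u) (hgi _)).2, ← Scheme.Hom.comp_apply (f := f') (g := W.ι), ← sq'.w,
      Scheme.Hom.comp_apply]
  have hvC : v ∈ MoreMor.sectionComponents f' g' := by
    rw [hSC', Set.mem_preimage, hv]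
    exact h.mem
  have hredv : FBase.IsGeomReducedAt (f'.fiberToSpecResidueField (f' v)) (f'.asFiber v) :=
    EquidimLib.isGeomReducedAt_baseChange f _ h.red sq' v hv
  have hred₁ := isGeomReducedAt_of_baseChange sq v hredv
  have hpv : p v ∈ comp f₁ g₁ (f₁ (p v)) := by
    have : p v ∈ MoreMor.sectionComponents f₁ g₁ := by
      rw [hSC₁] at hvC
      exact hvC
    exact this
  have key : p v' ∈ MoreMor.sectionComponents f₁ g₁ :=
    mem_sectionComponents_of_dim hg₁ hpv (hvv.map p.continuous) hred₁
      (by rw [hfp]; exact geomIrred_descend sq hg₁ (pullback.lift_snd _ _ _) hgp (hgi' _))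
      (by rw [hfp]; exact geomIrred_descend sq hg₁ (pullback.lift_snd _ _ _) hgp (hgi' _))
      (by rw [hdim, hdim, hv, hv']; exact h.dim_eq hx')
  have hv'C : v' ∈ MoreMor.sectionComponents f' g' := by rw [hSC₁]; exact key
  rw [hSC', Set.mem_preimage, hv'] at hv'C
  exact hv'C

omit [LocallyOfFiniteType f] in
/-- Geometric reducedness spreads out from a point at which the morphism becomes flat over the reduced base. -/
theorem mem_interior_geomReduced_of_flat_red [LocallyOfFinitePresentation f] {Y' : Scheme.{u}} (r : Y' ⟶ Y)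
    [IsClosedImmersion r] [Surjective r] (x : X) (x' : ↥(pullback f r)) (hx' : pullback.fst f r x' = x)
    (hfl : ((pullback.snd f r).stalkMap x').hom.Flat)
    (hred : FBase.IsGeomReducedAt (f.fiberToSpecResidueField (f x)) (f.asFiber x)) :
    x ∈ interior {z : X | FBase.IsGeomReducedAt (f.fiberToSpecResidueField (f z)) (f.asFiber z)} := by
  let p := pullback.fst f r
  let b := pullback.snd f r
  have sq : IsPullback p b f r := IsPullback.of_hasPullback f r
  haveI : IsClosedImmersion p := MorphismProperty.pullback_fst _ _ inferInstance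
  haveI : Surjective p := MorphismProperty.pullback_fst _ _ inferInstance
  haveI : LocallyOfFinitePresentation b := MorphismProperty.pullback_snd _ _ inferInstance
  have hopen := DepthLib.isOpen_flat_geomReduced b
  have hmem : x' ∈ {z | (b.stalkMap z).hom.Flat ∧ FBase.IsGeomReducedAt (b.fiberToSpecResidueField (b z)) (b.asFiber z)} :=
    ⟨hfl, EquidimLib.isGeomReducedAt_baseChange f _ hred sq x' hx'⟩
  have hhomeo : IsHomeomorph p :=
    ((Topology.IsEmbedding.toHomeomorphOfSurjective p.isClosedEmbedding.isEmbedding p.surjective)).isHomeomorph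
  refine mem_interior.mpr ⟨_, ?_, hhomeo.isOpenMap _ hopen, x', hmem, hx'⟩
  rintro _ ⟨z, hz, rfl⟩
  exact isGeomReducedAt_of_baseChange sq z hz.2

/-- Geometric reducedness is open at the points of constant dimension. -/
theorem mem_interior_geomReduced (hg : g ≫ f = 𝟙 Y) (hgi : ∀ y, GeomIrred f g y)
    (hfin : IsLocallyNoetherian Y ∨ (LocallyOfFinitePresentation f ∧ QuasiCompact f ∧ QuasiSeparated f)) {x : X}
    (h : ConstPt f g x) :
    x ∈ interior {z : X | FBase.IsGeomReducedAt (f.fiberToSpecResidueField (f z)) (f.asFiber z)} := by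
  haveI : LocallyOfFinitePresentation f := by
    rcases hfin with hY | h
    · exact UOpenLib.locallyOfFinitePresentation_of_isLocallyNoetherian f
    · exact h.1
  let J := Scheme.IdealSheafData.vanishingIdeal (⊤ : Closeds Y)
  let r : J.subscheme ⟶ Y := J.subschemeι
  haveI : IsReduced J.subscheme := DevissLib.isReduced_vanishingIdeal' ⊤
  haveI : Surjective r := ⟨fun z => J.range_subschemeι.ge (by simp [J])⟩
  let b := pullback.snd f r
  let g' := secBC f g hg r
  have sq := IsPullback.of_hasPullback f r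
  obtain ⟨u, hu⟩ := r.surjective (f x)
  obtain ⟨x', hx', hx'u⟩ := UOpenLib.image_fst_snd sq x u hu.symm
  obtain ⟨V, hV, hc⟩ := h.const
  have hgi' : ∀ z, GeomIrred b g' z := fun z => (baseChange_data f g hg r z (hgi _)).1
  have hdim : ∀ z, r z ∈ V → topologicalKrullDim ↥(comp b g' z) = topologicalKrullDim ↥(comp b g' (b x')) :=
    fun z hz => by
    rw [(baseChange_data f g hg r z (hgi _)).2, (baseChange_data f g hg r (b x') (hgi _)).2, hc _ hz, hx'u, hu]
  have hV' : r ⁻¹' V ∈ nhds (b x') := r.continuous.continuousAt.preimage_mem_nhds (by rw [hx'u, hu]; exact hV)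
  have hmem : x' ∈ comp b g' (b x') := by
    refine (mem_comp_baseChange_iff hg sq (pullback.lift_snd _ _ _) (pullback.lift_fst _ _ _) rfl).mpr ?_
    rw [hx', hx'u, hu]
    exact h.mem
  have hred' : FBase.IsGeomReducedAt (b.fiberToSpecResidueField (b x')) (b.asFiber x') :=
    EquidimLib.isGeomReducedAt_baseChange f _ h.red sq x' hx'
  refine mem_interior_geomReduced_of_flat_red r x x' hx' ?_ h.red
  haveI : LocallyOfFiniteType b := MorphismProperty.pullback_snd _ _ inferInstance
  rcases hfin with hY | ⟨_, hqc, hqs⟩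
  · haveI : IsLocallyNoetherian J.subscheme := LocallyOfFiniteType.isLocallyNoetherian r
    exact SecCompLib.flat_of_dim_const b g' (pullback.lift_snd _ _ _) hgi' x' hmem _ hV' hdim hred'
  · haveI : LocallyOfFinitePresentation b := MorphismProperty.pullback_snd _ _ inferInstance
    haveI : QuasiCompact b := MorphismProperty.pullback_snd _ _ inferInstance
    haveI : QuasiSeparated b := MorphismProperty.pullback_snd _ _ inferInstance
    exact flat_of_dim_const_fp b g' (pullback.lift_snd _ _ _) hgi' x' hmem _ hV' hdim hred'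

/-- EGA IV 15.6.7 (openness). -/
theorem isOpen_constPt (hg : g ≫ f = 𝟙 Y) (hgi : ∀ y, GeomIrred f g y)
    (hfin : IsLocallyNoetherian Y ∨ (LocallyOfFinitePresentation f ∧ QuasiCompact f ∧ QuasiSeparated f)) :
    IsOpen {x | ConstPt f g x} := by
  refine isOpen_iff_mem_nhds.mpr fun x hx => ?_
  have h1 : x ∈ interior (MoreMor.sectionComponents f g) := by
    rcases hfin with hY | ⟨_, hqc, hqs⟩
    · exact mem_interior_of_constPt hg hgi hx
    · exact mem_interior_of_constPt_fp hg hgi hx
  obtain ⟨V, hV, hc⟩ := hx.const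
  have h2 := f.continuous.continuousAt.preimage_mem_nhds (interior_mem_nhds.mpr hV)
  filter_upwards [mem_interior_iff_mem_nhds.mp h1,
    mem_interior_iff_mem_nhds.mp (mem_interior_geomReduced hg hgi hfin hx), h2] with z hz1 hz2 hz3
  exact ⟨hz1, ⟨V, mem_interior_iff_mem_nhds.mp hz3,
    fun w hw => (hc w hw).trans (hc _ (interior_subset hz3)).symm⟩, hz2⟩

end SecNhdLib
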