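import Mathlib
import Groth.Agent.SecNhdLib.DimLocus
import Groth.Agent.FibDimLib.Retro
import Groth.Agent.FibDimLib.GenIneq
import Groth.Agent.UOpenLib.Chevalley
import Groth.Agent.UOpenLib.Generization

/-!
# Local constancy of the dimension of section components
-/

set_option autoImplicit false
universe u

open CategoryTheory CategoryTheory.Limits AlgebraicGeometry TopologicalSpace Topology IsLocalRing

namespace SecNhdLib

open SecCompLib UOpenLib

variable {X Y : Scheme.{u}} {f : X ⟶ Y} {g : Y ⟶ X}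

theorem isLocallyConstructible_fibreDimAt_eq (f : X ⟶ Y) [LocallyOfFinitePresentation f] (n : ℕ) :
    IsLocallyConstructible {x : X | FlatMor.fibreDimAt f x = (n : WithBot ℕ∞)} := by
  have hc : ∀ c : WithBot ℕ∞, IsConstructible {x : X | FlatMor.fibreDimAt f x ≤ c} := fun c =>
    (FibDimLib.isRetrocompact_fibreDimAt_le f c).isConstructible (FibDimLib.isOpen_fibreDimAt_le f c)
  cases n with
  | zero =>
    convert (hc 0).isLocallyConstructible using 1
    ext x
    obtain ⟨k, hk⟩ := exists_fibreDimAt_eq_nat f x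
    simp only [Set.mem_setOf_eq, hk, Nat.cast_zero]
    exact ⟨le_of_eq, fun h => le_antisymm h (Nat.cast_zero (R := WithBot ℕ∞) ▸ Nat.cast_le.mpr (Nat.zero_le k))⟩
  | succ m =>
    convert ((hc (m + 1 : ℕ)).sdiff (hc m)).isLocallyConstructible using 1
    ext x
    obtain ⟨k, hk⟩ := exists_fibreDimAt_eq_nat f x
    simp only [Set.mem_diff, Set.mem_setOf_eq, hk, Nat.cast_inj, Nat.cast_le]
    omega

variable [LocallyOfFiniteType f]

/-- The dimension grows along specializations of the base. -/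
theorem dim_le_of_specializes (hg : g ≫ f = 𝟙 Y) (hirr : ∀ y, IsIrreducible (comp f g y)) {y y' : Y}
    (h : y' ⤳ y) : topologicalKrullDim ↥(comp f g y') ≤ topologicalKrullDim ↥(comp f g y) := by
  rw [← fibreDimAt_section hg (hirr y), ← fibreDimAt_section hg (hirr y')]
  exact FibDimLib.fibreDimAt_le_of_specializes f (h.map g.continuous)

/-- Universal openness at the generic point of a component lifts the dimension along generizations. -/
theorem exists_generization_dim (hg : g ≫ f = 𝟙 Y) {y y' : Y} (hy' : y' ⤳ y) {ξ : X} (hξ : ξ ∈ comp f g y)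
    (hC : comp f g y = closure {ξ} ∩ f.base ⁻¹' {y}) (hopen : EGA43.IsUnivOpenAt f ξ) :
    ∃ ζ : X, ζ ⤳ ξ ∧ f ζ = y' ∧ topologicalKrullDim ↥(comp f g y) ≤ fibreClosureDim f ζ := by
  have hfξ : f ξ = y := map_of_mem hξ
  have hmax : ∀ x' : X, f.base x' = f.base ξ → ξ ∈ closure {x'} → x' = ξ := fun x' hx' hsp => by
    have hsp' : x' ⤳ ξ := specializes_iff_mem_closure.mpr hsp
    have hmem : x' ∈ comp f g y := mem_of_generizes hξ (hx'.trans hfξ) hsp'
    exact (hsp'.antisymm (specializes_iff_mem_closure.mpr (hC ▸ hmem : _ ∈ closure {ξ} ∩ _).1)).eq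
  obtain ⟨ζ, h1, h2, h3⟩ := exists_generization_of_isUnivOpenAt f hmax hopen (y₁ := y') (hfξ.symm ▸ hy')
  refine ⟨ζ, h1, h2, le_trans (le_of_eq ?_) h3⟩
  rw [fibreDimAt_eq_of_max f hmax, dim_eq_fibreClosureDim hfξ hC]

theorem dim_eq_of_mem_sectionComponents (hg : g ≫ f = 𝟙 Y) (hirr : ∀ y, IsIrreducible (comp f g y)) {y y' : Y}
    (hy' : y' ⤳ y) {ζ : X} (hζ : ζ ∈ MoreMor.sectionComponents f g) (hfζ : f ζ = y')
    (hd : topologicalKrullDim ↥(comp f g y) ≤ fibreClosureDim f ζ) :
    topologicalKrullDim ↥(comp f g y') = topologicalKrullDim ↥(comp f g y) := by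
  refine le_antisymm (dim_le_of_specializes hg hirr hy') (hd.trans ?_)
  refine fibreClosureDim_le_dim hg ?_
  have h : ζ ∈ comp f g (f ζ) := hζ
  rwa [hfζ] at h

omit [LocallyOfFiniteType f] in
/-- A generization-stable level set of the dimension is a neighbourhood. -/
theorem exists_nhd_dim_const [LocallyOfFinitePresentation f] (hg : g ≫ f = 𝟙 Y)
    (hirr : ∀ y, IsIrreducible (comp f g y)) {y : Y}
    (h : ∀ y', y' ⤳ y → topologicalKrullDim ↥(comp f g y') = topologicalKrullDim ↥(comp f g y)) :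
    ∃ V ∈ nhds y, ∀ z ∈ V, topologicalKrullDim ↥(comp f g z) = topologicalKrullDim ↥(comp f g y) := by
  obtain ⟨n, hn⟩ := exists_fibreDimAt_eq_nat f (g.base y)
  let E : Set Y := g.base ⁻¹' {x | FlatMor.fibreDimAt f x = (n : WithBot ℕ∞)}
  have hE : IsLocallyConstructible E :=
    ConsLib.isLocallyConstructible_preimage g (isLocallyConstructible_fibreDimAt_eq f n)
  have hmem : ∀ z, z ∈ E ↔ topologicalKrullDim ↥(comp f g z) = topologicalKrullDim ↥(comp f g y) := fun z => by
    rw [← fibreDimAt_section hg (hirr y), ← fibreDimAt_section hg (hirr z), hn]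
    rfl
  refine ⟨E, mem_interior_iff_mem_nhds.mp ?_, fun z hz => (hmem z).mp hz⟩
  exact (Groth.Agent.ProConsLib.mem_interior_iff_forall_specializes
    (Groth.Agent.ProConsLib.isLocallyConstructible_iff_ind_and_pro.mp hE).1 y).mpr fun y' hy' => (hmem y').mpr (h y' hy')

omit [LocallyOfFiniteType f] in
/-- Geometric reducedness passes to generizations in the same fibre. -/
theorem isGeomReducedAt_of_generizes [LocallyOfFiniteType f] {x z : X} (hz : z ⤳ x) (hfz : f z = f x)
    (h : FBase.IsGeomReducedAt (f.fiberToSpecResidueField (f x)) (f.asFiber x)) :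
    FBase.IsGeomReducedAt (f.fiberToSpecResidueField (f z)) (f.asFiber z) := by
  let h₀ := Y.fromSpecResidueField (f x)
  let a := pullback.fst f h₀
  let b := pullback.snd f h₀
  have sq : IsPullback a b f h₀ := IsPullback.of_hasPullback f h₀
  haveI : LocallyOfFiniteType b := MorphismProperty.pullback_snd _ _ ‹LocallyOfFiniteType f›
  haveI := UOpenLib.locallyOfFinitePresentation_of_isLocallyNoetherian b
  obtain ⟨x', hx'⟩ : x ∈ Set.range (f.fiberι (f x)) := ⟨_, f.fiberι_asFiber x⟩
  obtain ⟨z', hz'⟩ : z ∈ Set.range (f.fiberι (f x)) := (f.range_fiberι (f x)).ge hfz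
  haveI : Flat b := by
    haveI : Subsingleton ↥(Spec (Y.residueField (f x))) := inferInstanceAs (Subsingleton (PrimeSpectrum (Y.residueField (f x))))
    infer_instance
  have hsp : z' ⤳ x' := by
    refine (f.fiberι (f x)).isEmbedding.isInducing.specializes_iff.mp ?_
    rw [hz', hx']
    exact hz
  have hmem := (hsp.mem_open (DepthLib.isOpen_flat_geomReduced b)
    ⟨Flat.stalkMap b x', EquidimLib.isGeomReducedAt_baseChange f _ h sq x' hx'⟩ :)
  exact hz' ▸ isGeomReducedAt_of_baseChange sq z' hmem.2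

/-- Generizations of the generic point of a component stay in the components. -/
theorem mem_sectionComponents_of_generizes_generic [IsLocallyNoetherian Y] (hg : g ≫ f = 𝟙 Y) {y : Y}
    (hy : GeomIrred f g y) {ξ : X} (hξ : ξ ∈ comp f g y) (hC : comp f g y = closure {ξ} ∩ f.base ⁻¹' {y})
    (H₁ : DvrHyp f (g y)) (H₂ : DvrHyp f ξ) {x' : X} (hsp : x' ⤳ ξ) :
    x' ∈ MoreMor.sectionComponents f g := by
  have hfξ : f ξ = y := map_of_mem hξ
  by_cases hyy : f x' = y
  · rw [mem_sectionComponents_iff]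
    show x' ∈ comp f g (f x')
    rw [hyy]
    exact mem_of_generizes hξ hyy hsp
  haveI : IsLocallyNoetherian X := LocallyOfFiniteType.isLocallyNoetherian f
  have hne : ξ ≠ x' := fun e => hyy (e ▸ hfξ)
  obtain ⟨A, hX, hA, hcl, hgen⟩ := DvrDomLib.exists_dvr_through_specialization (𝟙 X) x' ξ hsp hne
  rw [Category.comp_id] at hgen
  haveI := hA
  let S := Spec (CommRingCat.of A)
  let h : S ⟶ Y := hX ≫ f
  let η : S := Spec.map (CommRingCat.ofHom A.subtype) (closedPoint (X.residueField x'))
  let s : S := closedPoint A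
  have hηx : hX η = x' := by
    rw [← Scheme.Hom.comp_apply, hgen]; exact X.fromSpecResidueField_apply x' _
  have hη : (η : PrimeSpectrum A).asIdeal = ⊥ := by
    show Ideal.comap A.subtype (maximalIdeal (X.residueField x')) = ⊥
    rw [maximalIdeal_eq_bot, ← RingHom.ker_eq_comap_bot]
    exact (RingHom.injective_iff_ker_eq_bot _).mp Subtype.val_injective
  have hsη : η ⤳ s := (PrimeSpectrum.le_iff_specializes η s).mp
    (show (η : PrimeSpectrum A).asIdeal ≤ maximalIdeal A from hη ▸ bot_le)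
  have hhs : h s = y := by rw [Scheme.Hom.comp_apply, hcl, hfξ]
  have hne' : (η : S) ≠ s := fun e => hne (hcl.symm.trans ((congrArg hX.base e).symm.trans hηx))
  let P := pullback f h
  let p : P ⟶ X := pullback.fst f h
  let b : P ⟶ S := pullback.snd f h
  haveI : LocallyOfFiniteType b := MorphismProperty.pullback_snd _ _ inferInstance
  haveI : IsLocallyNoetherian P := LocallyOfFiniteType.isLocallyNoetherian b
  let σ : S ⟶ P := pullback.lift (h ≫ g) (𝟙 S) (by rw [Category.assoc, hg, Category.comp_id, Category.id_comp])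
  let τ : S ⟶ P := pullback.lift hX (𝟙 S) (Category.id_comp _).symm
  have hσ : σ ≫ b = 𝟙 S := pullback.lift_snd _ _ _
  have hσp : σ ≫ p = h ≫ g := pullback.lift_fst _ _ _
  have hbσ : ∀ t, b (σ t) = t := fun t => by rw [← Scheme.Hom.comp_apply, hσ]; rfl
  have hpσ : ∀ t, p (σ t) = g (h t) := fun t => by rw [← Scheme.Hom.comp_apply, hσp, Scheme.Hom.comp_apply]
  have hbτ : ∀ t, b (τ t) = t := fun t => by
    rw [← Scheme.Hom.comp_apply, show τ ≫ b = 𝟙 S from pullback.lift_snd _ _ _]; rfl
  have hpτ : ∀ t, p (τ t) = hX t := fun t => by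
    rw [← Scheme.Hom.comp_apply, show τ ≫ p = hX from pullback.lift_fst _ _ _]
  have sq : IsPullback p b f h := IsPullback.of_hasPullback f h
  have hi : IsIrreducible (comp b σ s) := isIrreducible_baseChange hg sq hσ hσp (hhs ▸ hy)
  obtain ⟨θ, hθ, hθC⟩ := exists_generic_comp hσ hi
  have hτs : τ s ∈ comp b σ s := (mem_comp_baseChange_iff hg sq hσ hσp (hbτ s)).mpr (by
    rw [hhs, hpτ, hcl]; exact hξ)
  have hθτ : θ ⤳ τ s := specializes_iff_mem_closure.mpr (hθC ▸ hτs : _ ∈ closure {θ} ∩ _).1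
  have hθσ : θ ⤳ σ s :=
    specializes_iff_mem_closure.mpr (hθC ▸ section_mem hσ s : _ ∈ closure {θ} ∩ _).1
  have hpθ : p θ = ξ := by
    have h1 : p θ ⤳ ξ := by
      have := hθτ.map p.continuous
      rwa [hpτ, hcl] at this
    have h2 : p θ ∈ comp f g y := hhs ▸ (mem_comp_baseChange_iff hg sq hσ hσp (map_of_mem hθ)).mp hθ
    exact (h1.antisymm (specializes_iff_mem_closure.mpr (hC ▸ h2 : _ ∈ closure {ξ} ∩ _).1)).eq
  let E : Set P := {z | b z ≠ s}
  have hE : IsOpen E := by
    have : IsClosed ({s} : Set S) := (PrimeSpectrum.isClosed_singleton_iff_isMaximal _).mpr (maximalIdeal.isMaximal A)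
    exact (this.preimage b.continuous).isOpen_compl
  have hEη : E ⊆ b ⁻¹' {η} := fun z hz => by
    refine PrimeSpectrum.ext ?_
    rw [hη]
    by_contra hne''
    exact hz (PrimeSpectrum.ext (IsLocalRing.eq_maximalIdeal ((b z).isPrime.isMaximal hne'')))
  let C₀ : Set P := {θ, σ s, τ s}
  have hC₀ : _root_.IsPreconnected C₀ := by
    refine isPreconnected_singleton.subset_closure (s := {θ}) (Set.singleton_subset_iff.mpr (Set.mem_insert _ _)) ?_
    rintro z (rfl | rfl | rfl)
    · exact subset_closure rfl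
    · exact hθσ.mem_closure
    · exact hθτ.mem_closure
  have hG : ∀ w ∈ C₀, _root_.IsConnected {z : P | z ⤳ w ∧ z ∈ E} := by
    have key : ∀ w, b w = s → DvrHyp f (p w) → _root_.IsConnected {z : P | z ⤳ w ∧ z ∈ E} := fun w hbw H => by
      obtain ⟨hfl, hred⟩ := H A h w rfl hbw
      exact isConnected_generizations b w hbw hred hfl
    rintro w (rfl | rfl | rfl)
    · exact key _ (map_of_mem hθ) (hpθ.symm ▸ H₂)
    · exact key _ (hbσ s) (by rw [hpσ, hhs]; exact H₁)
    · exact key _ (hbτ s) (by rw [hpτ, hcl]; exact H₂)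
  have hmem := mem_connectedComponentIn_of_specializes hE hC₀ hG (w₁ := σ s) (w₂ := τ s)
    (by simp [C₀]) (by simp [C₀]) (hsη.map σ.continuous) (show b (σ η) ≠ s by rwa [hbσ])
    (hsη.map τ.continuous) (show b (τ η) ≠ s by rwa [hbτ])
  have hτη : τ η ∈ comp b σ η := connectedComponentIn_mono _ hEη hmem
  have := (mem_comp_baseChange_iff hg sq hσ hσp (hbτ η)).mp hτη
  rw [hpτ, hηx, Scheme.Hom.comp_apply, hηx] at this
  exact this

/-- EGA IV 15.6.6 (iii), the case (α) over a locally Noetherian base. -/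
theorem dim_eq_of_geomReduced [IsLocallyNoetherian Y] (hg : g ≫ f = 𝟙 Y) (hgi : ∀ y, GeomIrred f g y) {y y' : Y}
    (hy' : y' ⤳ y) (hopen : ∀ ξ ∈ comp f g y, comp f g y ⊆ closure {ξ} → EGA43.IsUnivOpenAt f ξ)
    (hred : FBase.IsGeomReducedAt (f.fiberToSpecResidueField (f (g y))) (f.asFiber (g y))) :
    topologicalKrullDim ↥(comp f g y') = topologicalKrullDim ↥(comp f g y) := by
  have hirr := fun z => (hgi z).isIrreducible
  obtain ⟨ξ, hξ, hC⟩ := exists_generic_comp hg (hirr y)
  have ho := hopen ξ hξ (hC.le.trans Set.inter_subset_left)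
  have hfξ : f ξ = y := map_of_mem hξ
  have hξg : ξ ⤳ g y := specializes_iff_mem_closure.mpr (hC ▸ section_mem hg y : _ ∈ closure {ξ} ∩ _).1
  have hopen' : ∀ z, z ∈ comp f g y → EGA43.IsUnivOpenAt f z := fun z hz =>
    isUnivOpenAt_of_specializes f (specializes_iff_mem_closure.mpr (hC ▸ hz : _ ∈ closure {ξ} ∩ _).1)
      (hfξ.trans (map_of_mem hz).symm) ho
  have H₁ : DvrHyp f (g y) := dvrHyp_of_univOpen (fun z hz hsp =>
    hopen' z (mem_of_generizes (section_mem hg y) (hz.trans (apply_section hg y)) hsp)) hred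
  have H₂ : DvrHyp f ξ := dvrHyp_of_univOpen (fun z hz hsp =>
    hopen' z (mem_of_generizes hξ (hz.trans hfξ) hsp))
    (isGeomReducedAt_of_generizes hξg (hfξ.trans (apply_section hg y).symm) hred)
  obtain ⟨ζ, hζξ, hfζ, hd⟩ := exists_generization_dim hg hy' hξ hC ho
  exact dim_eq_of_mem_sectionComponents hg hirr hy'
    (mem_sectionComponents_of_generizes_generic hg (hgi y) hξ hC H₁ H₂ hζξ) hfζ hd

/-- EGA IV 15.6.6 (iii), the case (β). -/
theorem dim_eq_of_generic_fibres (hg : g ≫ f = 𝟙 Y) (hirr : ∀ y, IsIrreducible (comp f g y)) {y y' : Y}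
    (hy' : y' ⤳ y) (hopen : ∀ ξ ∈ comp f g y, comp f g y ⊆ closure {ξ} → EGA43.IsUnivOpenAt f ξ)
    (hβ : ∀ z : Y, y ∈ closure {z} → closure {z} ∈ irreducibleComponents (Y : Type u) →
      topologicalKrullDim ↥(f.fiber z) = topologicalKrullDim ↥(comp f g z)) :
    topologicalKrullDim ↥(comp f g y') = topologicalKrullDim ↥(comp f g y) := by
  obtain ⟨ξ, hξ, hC⟩ := exists_generic_comp hg (hirr y)
  have ho := hopen ξ hξ (hC.le.trans Set.inter_subset_left)
  let T := irreducibleComponent y'
  obtain ⟨z, hz⟩ := QuasiSober.sober (isIrreducible_irreducibleComponent (x := y')) isClosed_irreducibleComponent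
  have hzc : closure {z} ∈ irreducibleComponents (Y : Type u) := by
    rw [hz.def]; exact irreducibleComponent_mem_irreducibleComponents y'
  have hzy' : z ⤳ y' := hz.specializes mem_irreducibleComponent
  obtain ⟨ζ, -, hfζ, hd⟩ := exists_generization_dim hg (hzy'.trans hy') hξ hC ho
  refine le_antisymm (dim_le_of_specializes hg hirr hy') (le_trans ?_ (dim_le_of_specializes hg hirr hzy'))
  refine hd.trans ((FibDimLib.fibreClosureDim_le_fiber f ζ).trans (le_of_eq ?_))
  rw [hfζ, hβ z (hzy'.trans hy').mem_closure hzc]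

/-- Geometric integrality of a component gives geometric reducedness at its points. -/
theorem isGeomReducedAt_of_comp {y : Y}
    (hint : ∀ (K : Type u) [Field K] [Algebra (IsLocalRing.ResidueField (Y.presheaf.stalk y)) K]
      (x' : ↥(FBase.bc (f.fiberToSpecResidueField y) K)),
      (FBase.bcπ (f.fiberToSpecResidueField y) K ≫ f.fiberι y).base x' ∈ comp f g y →
      _root_.IsReduced ((FBase.bc (f.fiberToSpecResidueField y) K).presheaf.stalk x'))
    {x : X} (hx : x ∈ comp f g y) : FBase.IsGeomReducedAt (f.fiberToSpecResidueField (f x)) (f.asFiber x) := by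
  obtain rfl := map_of_mem hx
  intro K _ _ x' hx'
  refine hint K x' ?_
  rw [Scheme.Hom.comp_apply, hx', f.fiberι_asFiber]
  exact hx

end SecNhdLib
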